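import Mathlib
import Cfsg.Prelude.Def_Transfer

/-! The linear representation over `AlgebraicClosure (ZMod p)` of the normalizer of an elementary abelian `p`-subgroup. -/

namespace Cfsg.Agent.HallHigman

variable {G : Type*} [Group G] [Finite G] {p : ℕ} [Fact p.Prime]

/-- An action on an elementary abelian additive group, extended to the algebraic closure of `ZMod p`. -/
theorem exists_rep_aux {H : Type*} [Monoid H] {W : Type*} [AddCommGroup W] [Finite W] [Module (ZMod p) W]
    (act : H → W →+ W) (hone : ∀ w, act 1 w = w) (hmul : ∀ g h w, act (g * h) w = act g (act h w)) :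
    ∃ (m : ℕ) (ρ : H →* Module.End (AlgebraicClosure (ZMod p)) (Fin m → AlgebraicClosure (ZMod p))),
      (∀ g, ρ g = 1 ↔ ∀ w, act g w = w) ∧
      (∀ g, (∀ w, act g w = w → w = 0) → ∀ v, ρ g v = v → v = 0) ∧
      ∀ g, Nat.card {w : W // act g w = w} = p → Module.finrank (AlgebraicClosure (ZMod p)) (LinearMap.ker (ρ g - 1)) ≤ 1 := by
  classical
  let f : H →* Module.End (ZMod p) W :=
    { toFun := fun g => (act g).toZModLinearMap p
      map_one' := LinearMap.ext hone
      map_mul' := fun g h => LinearMap.ext (hmul g h) }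
  let b := Module.finBasis (ZMod p) W
  let φ : ZMod p →+* AlgebraicClosure (ZMod p) := algebraMap _ _
  refine ⟨_, ((Matrix.toLinAlgEquiv' (R := AlgebraicClosure (ZMod p))).toRingEquiv.toMonoidHom.comp
    φ.mapMatrix.toMonoidHom).comp ((LinearMap.toMatrixAlgEquiv b).toRingEquiv.toMonoidHom.comp f), fun g => ?_, ?_, ?_⟩
  · show Matrix.toLinAlgEquiv' (φ.mapMatrix (LinearMap.toMatrixAlgEquiv b (f g))) = 1 ↔ _
    rw [map_eq_one_iff _ (AlgEquiv.injective _),
      map_eq_one_iff φ.mapMatrix (Matrix.map_injective φ.injective), map_eq_one_iff _ (AlgEquiv.injective _)]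
    exact ⟨fun h w => LinearMap.congr_fun h w, fun h => LinearMap.ext h⟩
  · intro g hg w hw
    change Matrix.toLinAlgEquiv' (φ.mapMatrix (LinearMap.toMatrixAlgEquiv b (f g))) w = w at hw
    have hdet : (LinearMap.toMatrixAlgEquiv b (f g) - 1).det ≠ 0 := by
      intro e
      have e' : LinearMap.det (f g - 1) = 0 := by
        rw [← LinearMap.det_toMatrix b]
        rw [← map_one (LinearMap.toMatrixAlgEquiv b), ← map_sub] at e
        exact e
      obtain ⟨v, hv, hv0⟩ := SetLike.exists_of_lt (LinearMap.bot_lt_ker_of_det_eq_zero e')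
      rw [LinearMap.mem_ker, LinearMap.sub_apply, sub_eq_zero, Module.End.one_apply] at hv
      exact hv0 ((Submodule.mem_bot _).2 (hg v hv))
    have h2 : (φ.mapMatrix (LinearMap.toMatrixAlgEquiv b (f g) - 1)).mulVec w = 0 := by
      rw [map_sub, map_one, Matrix.sub_mulVec, Matrix.one_mulVec, sub_eq_zero]
      rw [Matrix.toLinAlgEquiv'_apply] at hw
      exact hw
    refine Matrix.eq_zero_of_mulVec_eq_zero ?_ h2
    rw [← RingHom.map_det]
    exact fun e => hdet (φ.injective (by rw [e, map_zero]))
  · intro g hg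
    set T : Module.End (ZMod p) W := f g - 1 with hT
    have hker : ∀ w, w ∈ LinearMap.ker T ↔ act g w = w := fun w => by
      rw [LinearMap.mem_ker, hT, LinearMap.sub_apply, sub_eq_zero, Module.End.one_apply]
      rfl
    have h1 : Module.finrank (ZMod p) (LinearMap.ker T) = 1 := by
      have h := Module.natCard_eq_pow_finrank (K := ZMod p) (V := LinearMap.ker T)
      rw [Nat.card_congr ((Equiv.refl W).subtypeEquiv fun w => hker w : LinearMap.ker T ≃ {w : W // act g w = w}), hg, Nat.card_zmod] at h
      exact (Nat.pow_right_injective (Fact.out : p.Prime).two_le ((pow_one p).trans h)).symm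
    obtain ⟨⟨u, hu⟩, hu0, hspan⟩ := finrank_eq_one_iff'.1 h1
    obtain ⟨φ0, hφ0⟩ : ∃ φ0 : W →ₗ[ZMod p] ZMod p, φ0 u ≠ 0 := by
      obtain ⟨i, hi⟩ : ∃ i, b.repr u i ≠ 0 := by
        by_contra h
        push Not at h
        exact hu0 (Subtype.ext (b.repr.injective (Finsupp.ext fun i => by simp [h i])))
      exact ⟨b.coord i, hi⟩
    have hinj : LinearMap.ker (T.prod φ0) = ⊥ := by
      refine (Submodule.eq_bot_iff _).2 fun w hw => ?_
      rw [LinearMap.ker_prod, Submodule.mem_inf, LinearMap.mem_ker, LinearMap.mem_ker] at hw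
      obtain ⟨c, hc⟩ := hspan ⟨w, LinearMap.mem_ker.2 hw.1⟩
      have hc' : c • u = w := congrArg Subtype.val hc
      have h3 := hw.2
      rw [← hc', map_smul, smul_eq_mul, mul_eq_zero, or_iff_left hφ0] at h3
      rw [← hc', h3, zero_smul]
    obtain ⟨L, hL⟩ := LinearMap.exists_leftInverse_of_injective _ hinj
    have hid : (1 : Module.End (ZMod p) W) = (L.comp (LinearMap.inl _ _ _)) * T + φ0.smulRight (L (0, 1)) := by
      refine LinearMap.ext fun w => ?_
      have h3 : L (T w, φ0 w) = w := LinearMap.congr_fun hL w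
      have h4 : (T w, φ0 w) = (T w, (0 : ZMod p)) + φ0 w • ((0 : W), (1 : ZMod p)) := by simp
      rw [h4, map_add, map_smul] at h3
      conv_lhs => rw [Module.End.one_apply, ← h3]
      rfl
    set M : Module.End (ZMod p) W → Matrix _ _ (AlgebraicClosure (ZMod p)) := fun A => φ.mapMatrix (LinearMap.toMatrixAlgEquiv b A) with hM
    let α : Fin (Module.finrank (ZMod p) W) → AlgebraicClosure (ZMod p) := fun j => φ (φ0 (b j))
    let β : Fin (Module.finrank (ZMod p) W) → AlgebraicClosure (ZMod p) := fun i => φ (b.repr (L (0, 1)) i)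
    have hR : M (φ0.smulRight (L (0, 1))) = Matrix.vecMulVec β α := by
      refine Matrix.ext fun i j => ?_
      simp [hM, α, β, Matrix.vecMulVec_apply, LinearMap.toMatrixAlgEquiv_apply, LinearMap.smulRight_apply, mul_comm]
    have hle : LinearMap.ker (Matrix.toLinAlgEquiv' (φ.mapMatrix (LinearMap.toMatrixAlgEquiv b (f g))) - 1) ≤
        Submodule.span (AlgebraicClosure (ZMod p)) {β} := by
      intro w hw
      rw [LinearMap.mem_ker, LinearMap.sub_apply, Matrix.toLinAlgEquiv'_apply, Module.End.one_apply] at hw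
      have hTw : (M T).mulVec w = 0 := by
        simp only [hM, hT, map_sub, map_one, Matrix.sub_mulVec, Matrix.one_mulVec]
        exact hw
      have h3 : w = (M (L.comp (LinearMap.inl _ _ _)) * M T + M (φ0.smulRight (L (0, 1)))).mulVec w := by
        simp only [hM, ← map_mul, ← map_add, ← hid, map_one, Matrix.one_mulVec]
      rw [Matrix.add_mulVec, ← Matrix.mulVec_mulVec, hTw, Matrix.mulVec_zero, zero_add, hR,
        Matrix.vecMulVec_mulVec, op_smul_eq_smul] at h3
      rw [h3]
      exact Submodule.smul_mem _ _ (Submodule.mem_span_singleton_self β)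
    refine (Submodule.finrank_mono hle).trans ?_
    exact (finrank_span_le_card _).trans (by simp)

/-- The action of `N(V)` on `V` extended to the algebraic closure of `ZMod p`, with the rank of fixed points. -/
theorem exists_rep' (V : Subgroup G) (hV : Cfsg.IsElementaryAbelian p V) :
    ∃ (m : ℕ) (ρ : Subgroup.normalizer (V : Set G) →* Module.End (AlgebraicClosure (ZMod p)) (Fin m → AlgebraicClosure (ZMod p))),
      (∀ g : Subgroup.normalizer (V : Set G), ρ g = 1 ↔ (g : G) ∈ Subgroup.centralizer (V : Set G)) ∧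
      (∀ g : Subgroup.normalizer (V : Set G), (∀ v ∈ V, (g : G) * v = v * g → v = 1) →
        ∀ w, ρ g w = w → w = 0) ∧
      ∀ g : Subgroup.normalizer (V : Set G), Nat.card ↥(V ⊓ Subgroup.centralizer ({(g : G)} : Set G)) = p →
        Module.finrank (AlgebraicClosure (ZMod p)) (LinearMap.ker (ρ g - 1)) ≤ 1 := by
  classical
  letI : CommGroup V := { (inferInstance : Group V) with mul_comm := fun a b => hV.1.is_comm.comm a b }
  letI : Module (ZMod p) (Additive V) := AddCommGroup.zmodModule fun v => by
    rw [← toMul_eq_one, toMul_nsmul]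
    exact Subtype.ext (by simpa using hV.2 _ v.toMul.2)
  obtain ⟨m, ρ, h1, h2, h3'⟩ := exists_rep_aux (p := p) (W := Additive V) (H := Subgroup.normalizer (V : Set G))
    (fun g => MonoidHom.toAdditive (V.normalizerMonoidHom g).toMonoidHom)
    (fun v => Additive.toMul.injective (Subtype.ext (show (((1 : Subgroup.normalizer (V : Set G)) : G)) * v.toMul * _⁻¹ = _ by simp)))
    (fun g h v => Additive.toMul.injective (Subtype.ext (show ((g * h : Subgroup.normalizer (V : Set G)) : G) * v.toMul *
      ((g * h : Subgroup.normalizer (V : Set G)) : G)⁻¹ = (g : G) * ((h : G) * v.toMul * (h : G)⁻¹) * (g : G)⁻¹ by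
        rw [Subgroup.coe_mul]; group)))
  refine ⟨m, ρ, fun g => (h1 g).trans ?_, fun g hg => h2 g fun v hv => ?_, fun g hg => h3' g ?_⟩
  · rw [Subgroup.mem_centralizer_iff]
    constructor
    · intro h v hv
      have h3 : (g : G) * v * (g : G)⁻¹ = v := congrArg (fun u : Additive V => ((u.toMul : V) : G)) (h (Additive.ofMul ⟨v, hv⟩))
      conv_lhs => rw [← h3]
      group
    · intro h v
      refine Additive.toMul.injective (Subtype.ext ?_)
      show (g : G) * v.toMul * (g : G)⁻¹ = v.toMul
      rw [← h _ v.toMul.2, mul_inv_cancel_right]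
  · rw [← toMul_eq_one]
    refine Subtype.ext (hg _ v.toMul.2 ?_)
    have h3 : (g : G) * v.toMul * (g : G)⁻¹ = v.toMul := congrArg (fun u : Additive V => ((u.toMul : V) : G)) hv
    conv_rhs => rw [← h3]
    group
  · refine Eq.trans (Nat.card_congr
      { toFun := fun w => (⟨((w.1.toMul : V) : G), w.1.toMul.2, Subgroup.mem_centralizer_singleton_iff.2 (by
          have h3 : (g : G) * w.1.toMul * (g : G)⁻¹ = w.1.toMul := congrArg (fun u : Additive V => ((u.toMul : V) : G)) w.2
          conv_lhs => rw [← h3]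
          group)⟩ : ↥(V ⊓ Subgroup.centralizer ({(g : G)} : Set G)))
        invFun := fun v => ⟨Additive.ofMul ⟨v.1, v.2.1⟩, Additive.toMul.injective (Subtype.ext (by
          show (g : G) * v.1 * (g : G)⁻¹ = v.1
          rw [← Subgroup.mem_centralizer_singleton_iff.1 v.2.2, mul_inv_cancel_right]))⟩
        left_inv := fun w => Subtype.ext rfl
        right_inv := fun v => rfl }) hg

/-- The action of `N(V)` on `V` extended to the algebraic closure of `ZMod p`. -/
theorem exists_rep (V : Subgroup G) (hV : Cfsg.IsElementaryAbelian p V) :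
    ∃ (m : ℕ) (ρ : Subgroup.normalizer (V : Set G) →* Module.End (AlgebraicClosure (ZMod p)) (Fin m → AlgebraicClosure (ZMod p))),
      (∀ g : Subgroup.normalizer (V : Set G), ρ g = 1 ↔ (g : G) ∈ Subgroup.centralizer (V : Set G)) ∧
      ∀ g : Subgroup.normalizer (V : Set G), (∀ v ∈ V, (g : G) * v = v * g → v = 1) →
        ∀ w, ρ g w = w → w = 0 :=
  (exists_rep' V hV).imp fun _ h => h.imp fun _ h' => ⟨h'.1, h'.2.1⟩

end Cfsg.Agent.HallHigman
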