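import Cfsg.Agent.Lib.HallHigman.TheoremB
import Cfsg.Agent.Lib.Coprime.Sylow
import Cfsg.Agent.Lib.PCore.HallHigmanDual
import Cfsg.Agent.Lib.PCore.Faithful
import Cfsg.Agent.Lib.PCore.PSolvable
import Cfsg.Agent.Lib.PCore.Basic
import Cfsg.Agent.Lib.PCore.HallHigman
import Cfsg.Agent.Lib.PGroup.Frattini

/-!
# Hall–Higman Theorem B for `p`-solvable linear groups and for chief factors (`p` odd)

* `sum_pow_ne_zero`: `X` `p`-solvable, `O_p(X) = 1`, faithful in characteristic `p`, `x` of order `p ^ n`: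
  `1 + x + ⋯ + x ^ (p ^ n - 1) ≠ 0` unless `p` is a Fermat prime and a Sylow `2`-subgroup is non-abelian
* `exists_prod_conj_ne_one`: the same on `O_p(G) / Φ(O_p(G))`
-/

set_option autoImplicit false
set_option linter.style.haveILetI false

namespace Cfsg.Agent.HallHigman

open Finset
open scoped commutatorElement

/-- An injective ring hom from endomorphisms into endomorphisms over the algebraic closure. -/
theorem exists_extend (F : Type*) [Field F] (W : Type*) [AddCommGroup W] [Module F W] [FiniteDimensional F W] :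
    ∃ (m : ℕ) (ψ : Module.End F W →+* Module.End (AlgebraicClosure F) (Fin m → AlgebraicClosure F)),
      Function.Injective ψ :=
  ⟨_, (Matrix.toLinAlgEquiv' (R := AlgebraicClosure F)).toRingEquiv.toRingHom.comp
      ((algebraMap F (AlgebraicClosure F)).mapMatrix.comp
        (LinearMap.toMatrixAlgEquiv (Module.finBasis F W)).toRingEquiv.toRingHom),
    (Matrix.toLinAlgEquiv' (R := AlgebraicClosure F)).injective.comp
      ((Matrix.map_injective (algebraMap F (AlgebraicClosure F)).injective).comp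
        (LinearMap.toMatrixAlgEquiv (Module.finBasis F W)).injective)⟩

variable {p : ℕ} [Fact p.Prime]

/-- A `p`-element moved nothing on the `p'`-core: some invariant Sylow subgroup of it is moved. -/
theorem exists_invariant_sylow_moved {X : Type*} [Group X] [Finite X] (hs : Cfsg.IsPSolvable p X)
    (hcore : Cfsg.pCore p X = ⊥) {x y : X} {n : ℕ} (hx : x ^ p ^ n = 1) (hy : y ^ p = 1) (hy1 : y ≠ 1) :
    ∃ (q : ℕ) (R : Subgroup X), q.Prime ∧ q ≠ p ∧ IsPGroup q R ∧ x ∈ Subgroup.normalizer (R : Set X) ∧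
      y ∉ Subgroup.centralizer (R : Set X) := by
  set M := Cfsg.pPrimeCore p X with hM
  set A := Subgroup.zpowers x with hA
  have hMc : (Nat.card M).Coprime p := PCore.coprime_card_pPrimeCore
  have hcop : (Nat.card A).Coprime (Nat.card M) := by
    obtain ⟨i, -, hi⟩ := (Nat.dvd_prime_pow (Fact.out : p.Prime)).1 (orderOf_dvd_of_pow_eq_one hx)
    rw [hA, Nat.card_zpowers, hi]
    exact hMc.symm.pow_left i
  have hAM : A ≤ Subgroup.normalizer (M : Set X) := by
    rw [Subgroup.normalizer_eq_top]; exact le_top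
  by_contra hno
  push Not at hno
  have hyC : y ∈ Subgroup.centralizer (M : Set X) := by
    have hsup : M ≤ Subgroup.centralizer ({y} : Set X) := by
      set D := M ⊓ Subgroup.centralizer ({y} : Set X) with hD
      suffices h : Nat.card M ∣ Nat.card D from
        (Subgroup.eq_of_le_of_card_ge inf_le_left (Nat.le_of_dvd Nat.card_pos h)).ge.trans inf_le_right
      refine (Nat.dvd_iff_prime_pow_dvd_dvd _ _).2 fun q k hq hqk => ?_
      rcases Nat.eq_zero_or_pos k with rfl | hk
      · simp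
      haveI := Fact.mk hq
      have hqp : q ≠ p := fun e => by
        subst e
        exact hq.coprime_iff_not_dvd.1 hMc.symm ((dvd_pow_self q hk.ne').trans hqk)
      obtain ⟨P, hP⟩ := Coprime.exists_invariant_sylow hAM hcop
        (Or.inl (Group.isSolvable_of_comm fun a b => by
          obtain ⟨i, hi⟩ := Subgroup.mem_zpowers_iff.1 a.2
          obtain ⟨j, hj⟩ := Subgroup.mem_zpowers_iff.1 b.2
          exact Subtype.ext (by show (a : X) * b = b * a; rw [← hi, ← hj, ← zpow_add, ← zpow_add, add_comm]))) q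
      set R := (P : Subgroup M).map M.subtype with hR
      have h1 := hno q R hq hqp (P.2.map _) (hP (Subgroup.mem_zpowers x))
      have hle : R ≤ D := le_inf (Subgroup.map_subtype_le _) fun z hz =>
        Subgroup.mem_centralizer_singleton_iff.2 (Subgroup.mem_centralizer_iff.1 h1 z hz)
      refine dvd_trans ?_ (Subgroup.card_dvd_of_le hle)
      rw [hR, Subgroup.card_map_of_injective M.subtype_injective, P.card_eq_multiplicity]
      exact pow_dvd_pow q ((hq.pow_dvd_iff_le_factorization Nat.card_pos.ne').1 hqk)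
    exact Subgroup.mem_centralizer_iff.2 fun m hm => Subgroup.mem_centralizer_singleton_iff.1 (hsup hm)
  have hyM := PCore.centralizer_pPrimeCore_le hs hcore hyC
  refine hy1 (orderOf_eq_one_iff.1 (Nat.eq_one_of_dvd_coprimes hMc (M.orderOf_dvd_natCard hyM)
    (orderOf_dvd_of_pow_eq_one hy)))

/-- **Hall–Higman Theorem B**, `p` odd. -/
theorem sum_pow_ne_zero {K : Type*} [Field K] [CharP K p] [IsAlgClosed K] {W : Type*} [AddCommGroup W]
    [Module K W] [FiniteDimensional K W] {X : Type*} [Group X] [Finite X] (hp2 : p ≠ 2)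
    (hs : Cfsg.IsPSolvable p X) (hcore : Cfsg.pCore p X = ⊥)
    (hexc : (¬ ∃ k : ℕ, p = 2 ^ k + 1) ∨ ∀ S : Sylow 2 X, IsMulCommutative (S : Subgroup X))
    (ψ : X →* Module.End K W) (hψ : Function.Injective ψ) {x : X} {n : ℕ} (hn : 1 ≤ n)
    (hx : x ^ p ^ n = 1) (hxy : x ^ p ^ (n - 1) ≠ 1) :
    ∑ k ∈ range (p ^ n), ψ x ^ k ≠ 0 := by
  intro hsum
  obtain ⟨q, R, hq, hqp, hR, hxR, hyR⟩ := exists_invariant_sylow_moved hs hcore hx
    (y := x ^ p ^ (n - 1)) (by rw [← pow_mul, ← pow_succ, Nat.sub_add_cancel hn, hx]) hxy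
  haveI := Fact.mk hq
  set N := Subgroup.normalizer (R : Set X) with hN
  set σ : MulAut R := R.normalizerMonoidHom ⟨x, hxR⟩ with hσ
  have hσk : ∀ (k : ℕ) (g : R), (((σ ^ k) g : R) : X) = x ^ k * g * (x ^ k)⁻¹ := fun k g => by
    rw [hσ, ← map_pow]; rfl
  obtain ⟨rfl, hF, a, b, hab⟩ := theorem_b_core hp2 hqp n hR (ψ.comp R.subtype) σ hn
    (MulEquiv.ext fun g => Subtype.ext (by rw [hσk, hx]; simp)) (ψ x) (by rw [← map_pow, hx, map_one])
    (fun g => by
      show ψ x * ψ g = ψ (σ g : R) * ψ x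
      rw [← map_mul, ← map_mul, ← pow_one σ, hσk, pow_one, inv_mul_cancel_right])
    (by
      by_contra hall
      push Not at hall
      refine hyR (Subgroup.mem_centralizer_iff.2 fun g hg => ?_)
      have h1 : ψ (((σ ^ p ^ (n - 1)) ⟨g, hg⟩ : R) : X) = ψ g := hall ⟨g, hg⟩
      rw [hσk] at h1
      exact (mul_inv_eq_iff_eq_mul.1 (hψ h1)).symm)
    (by rw [sub_one_pow_eq_sum, hsum])
  rcases hexc with h | h
  · exact h hF
  · obtain ⟨S, hS⟩ := hR.exists_le_sylow
    have e : ((a : X) * b : X) = b * a := congrArg Subtype.val ((h S).is_comm.comm ⟨a, hS a.2⟩ ⟨b, hS b.2⟩)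
    exact hab (Subtype.ext e)

/-- Theorem B on a self-centralising elementary abelian `V = O_p(G)`: some `v ∈ V` has
`v · v ^ x ⋯ v ^ (x ^ (p ^ n - 1)) ≠ 1`, written as `(v * x) ^ (p ^ n) ≠ x ^ (p ^ n)`. -/
theorem exists_mul_pow_ne {G : Type*} [Group G] [Finite G] (hp2 : p ≠ 2) (hs : Cfsg.IsPSolvable p G)
    {V : Subgroup G} [V.Normal] (hV : Cfsg.IsElementaryAbelian p V) (hcore : Cfsg.pCore p G = V)
    (hC : Subgroup.centralizer (V : Set G) ≤ V)
    (hexc : (¬ ∃ k : ℕ, p = 2 ^ k + 1) ∨ ∀ S : Sylow 2 G, IsMulCommutative (S : Subgroup G))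
    {x : G} {n : ℕ} (hn : 1 ≤ n) (hx : x ^ p ^ n ∈ V) (hxy : x ^ p ^ (n - 1) ∉ V) :
    ∃ v ∈ V, (v * x) ^ p ^ n ≠ x ^ p ^ n := by
  classical
  let _ : CommGroup V := { (inferInstance : Group V) with mul_comm := fun a b => hV.1.is_comm.comm a b }
  have : Module (ZMod p) (Additive V) := AddCommGroup.zmodModule fun v => by
    apply Additive.toMul.injective
    rw [toMul_nsmul, toMul_zero]
    exact Subtype.ext (by rw [SubgroupClass.coe_pow]; exact hV.2 _ (Additive.toMul v).2)
  let act : G →* Module.End (ZMod p) (Additive V) :=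
    { toFun := fun g => (MonoidHom.toAdditive (MulAut.conjNormal g : MulAut V).toMonoidHom).toZModLinearMap p
      map_one' := LinearMap.ext fun v => Additive.toMul.injective (Subtype.ext
        (show (1 : G) * ((Additive.toMul v : V) : G) * (1 : G)⁻¹ = ((Additive.toMul v : V) : G) by simp))
      map_mul' := fun g h => LinearMap.ext fun v => Additive.toMul.injective (Subtype.ext
        (show (g * h) * ((Additive.toMul v : V) : G) * (g * h)⁻¹ =
          g * (h * ((Additive.toMul v : V) : G) * h⁻¹) * g⁻¹ by group)) }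
  have hactv : ∀ (g : G) (v : V), ((Additive.toMul (act g (Additive.ofMul v)) : V) : G) = g * v * g⁻¹ :=
    fun g v => MulAut.conjNormal_apply g v
  have hVk : V ≤ act.ker := fun g hg => LinearMap.ext fun v => Additive.toMul.injective (Subtype.ext (by
    show ((Additive.toMul (act g (Additive.ofMul (Additive.toMul v))) : V) : G) = Additive.toMul v
    rw [hactv, show g * ((Additive.toMul v : V) : G) = (Additive.toMul v : V) * g from
      congrArg Subtype.val (hV.1.is_comm.comm ⟨g, hg⟩ (Additive.toMul v)), mul_inv_cancel_right]))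
  let f : G ⧸ V →* Module.End (ZMod p) (Additive V) := QuotientGroup.lift V act hVk
  have hf : Function.Injective f := by
    refine (injective_iff_map_eq_one f).2 fun g hg => ?_
    induction g using QuotientGroup.induction_on with | H g => ?_
    refine (QuotientGroup.eq_one_iff g).2 (hC (Subgroup.mem_centralizer_iff.2 fun v hv => ?_))
    have h1 : g * v * g⁻¹ = v := by
      have h2 := hactv g ⟨v, hv⟩
      rw [show act g = 1 from hg] at h2
      exact h2.symm
    exact (mul_inv_eq_iff_eq_mul.1 h1).symm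
  obtain ⟨m, ψ, hψ⟩ := exists_extend (ZMod p) (Additive V)
  have hXcore : Cfsg.pCore p (G ⧸ V) = ⊥ := by
    subst hcore; exact PCore.pCore_quotient_self_eq_bot
  have hexc' : (¬ ∃ k : ℕ, p = 2 ^ k + 1) ∨ ∀ S : Sylow 2 (G ⧸ V), IsMulCommutative (S : Subgroup (G ⧸ V)) := by
    refine hexc.imp id fun h S => ?_
    obtain ⟨T, rfl⟩ := Sylow.mapSurjective_surjective (QuotientGroup.mk'_surjective V) 2 S
    refine ⟨⟨fun a b => Subtype.ext ?_⟩⟩
    obtain ⟨a', ha', ea⟩ := a.2
    obtain ⟨b', hb', eb⟩ := b.2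
    show (a : G ⧸ V) * b = b * a
    rw [← ea, ← eb, ← map_mul, ← map_mul,
      show a' * b' = b' * a' from congrArg Subtype.val ((h T).is_comm.comm ⟨a', ha'⟩ ⟨b', hb'⟩)]
  have hne := sum_pow_ne_zero hp2 (PCore.isPSolvable_quotient hs V) hXcore hexc'
    (ψ.toMonoidHom.comp f) (hψ.comp hf) (x := (x : G ⧸ V)) hn
    (by rw [← QuotientGroup.mk_pow]; exact (QuotientGroup.eq_one_iff _).2 hx)
    (by rw [← QuotientGroup.mk_pow]; exact fun e => hxy ((QuotientGroup.eq_one_iff _).1 e))
  by_contra hall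
  push Not at hall
  refine hne ?_
  have h0 : ∑ k ∈ range (p ^ n), act x ^ k = 0 := by
    refine LinearMap.ext fun v => ?_
    have key : ∀ k : ℕ, (((Additive.toMul v : V) : G) * x) ^ k =
        ((Additive.toMul ((∑ i ∈ range k, act x ^ i) v) : V) : G) * x ^ k := by
      intro k
      induction k with
      | zero => simp
      | succ k ih =>
        rw [pow_succ, ih, Finset.sum_range_succ, LinearMap.add_apply, toMul_add, Subgroup.coe_mul, ← map_pow,
          show ((Additive.toMul ((act (x ^ k)) v) : V) : G) = x ^ k * (Additive.toMul v : V) * (x ^ k)⁻¹ from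
            hactv (x ^ k) (Additive.toMul v), pow_succ]
        group
    have h1 := hall _ (Additive.toMul v).2
    rw [key] at h1
    apply Additive.toMul.injective
    exact Subtype.ext (mul_eq_right.1 h1)
  have e : ∀ k, (ψ.toMonoidHom.comp f) (x : G ⧸ V) ^ k = ψ (act x ^ k) := fun k => (map_pow ψ (act x) k).symm
  rw [Finset.sum_congr rfl fun k _ => e k, ← map_sum, h0, map_zero]

/-- The quotient by `Φ(O_p(G))` of a `p`-solvable group with `O_{p'}(G) = 1`. -/
theorem frattini_quotient_facts {G : Type*} [Group G] [Finite G] (hs : Cfsg.IsPSolvable p G)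
    (hbot : Cfsg.pPrimeCore p G = ⊥) (F : Subgroup G) [F.Normal]
    (hF : F = (frattini (Cfsg.pCore p G)).map (Cfsg.pCore p G).subtype) :
    F ≤ Cfsg.pCore p G ∧ Cfsg.IsElementaryAbelian p ((Cfsg.pCore p G).map (QuotientGroup.mk' F)) ∧
      Cfsg.pCore p (G ⧸ F) = (Cfsg.pCore p G).map (QuotientGroup.mk' F) ∧
      Subgroup.centralizer (((Cfsg.pCore p G).map (QuotientGroup.mk' F) : Subgroup (G ⧸ F)) : Set (G ⧸ F)) ≤
        (Cfsg.pCore p G).map (QuotientGroup.mk' F) := by
  set O := Cfsg.pCore p G with hO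
  have hOp : IsPGroup p O := PCore.isPGroup_pCore
  have hFO : F ≤ O := hF.le.trans (Subgroup.map_subtype_le _)
  refine ⟨hFO, PGroup.isElementaryAbelian_of_forall ?_ ?_, (PCore.map_pCore_quotient F (hOp.to_le hFO)).symm, ?_⟩
  · rintro _ ⟨v, hv, rfl⟩ _ ⟨w, hw, rfl⟩
    have hm : ⁅(⟨v, hv⟩ : O), ⟨w, hw⟩⁆ ∈ frattini ↥O := PGroup.commutator_le_frattini hOp
      (_root_.commutator_def (G := O) ▸ Subgroup.commutator_mem_commutator (Subgroup.mem_top _) (Subgroup.mem_top _))
    rw [← commutatorElement_eq_one_iff_mul_comm, ← map_commutatorElement]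
    exact (QuotientGroup.eq_one_iff _).mpr (hF.ge ⟨_, hm, rfl⟩)
  · rintro _ ⟨v, hv, rfl⟩
    rw [← map_pow]
    exact (QuotientGroup.eq_one_iff _).mpr (hF.ge ⟨_, PGroup.pow_mem_frattini hOp ⟨v, hv⟩, rfl⟩)
  · intro z hz
    obtain ⟨g, rfl⟩ := QuotientGroup.mk'_surjective F z
    refine ⟨g, (PCore.mem_pCore_iff_frattini (PCore.centralizer_pCore_le hs hbot)).1 fun o ho => hF.le ?_, rfl⟩
    rw [← QuotientGroup.eq_one_iff (N := F)]
    show QuotientGroup.mk' F (g * o * g⁻¹ * o⁻¹) = 1
    rw [map_mul, map_mul, map_mul, ← Subgroup.mem_centralizer_iff.1 hz _ (Subgroup.mem_map_of_mem _ ho), map_inv,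
      map_inv, mul_inv_cancel_right, mul_inv_cancel]

end Cfsg.Agent.HallHigman
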