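import Mathlib

/-!
A nilpotent group `N` with a semiregular automorphism of prime order induced by an operator with at most a
line of fixed vectors acts through an abelian image, `|N|` being invertible.
-/

namespace Cfsg.Agent.HallHigman

open Finset

variable {K W N : Type*} [Field K] [IsAlgClosed K] [AddCommGroup W] [Module K W] [FiniteDimensional K W]
  [Group N] [Finite N] {r : ℕ}

theorem exists_scalar_of_central {U : Submodule K W} (hU0 : U ≠ ⊥) (π : N →* Module.End K W)
    (hUπ : ∀ n, ∀ u ∈ U, π n u ∈ U)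
    (hmin : ∀ U' : Submodule K W, U' ≤ U → U' ≠ ⊥ → (∀ n, ∀ u ∈ U', π n u ∈ U') → U' = U)
    (z : N) (hz : ∀ n, ∀ u ∈ U, π n (π z u) = π z (π n u)) : ∃ c : K, ∀ u ∈ U, π z u = c • u := by
  haveI : Nontrivial U := Submodule.nontrivial_iff_ne_bot.2 hU0
  obtain ⟨c, hc⟩ := Module.End.exists_eigenvalue ((π z).restrict (hUπ z))
  refine ⟨c, fun u hu => ?_⟩
  let E : Submodule K W := U ⊓ Module.End.eigenspace (π z) c
  have hE : E = U := by
    refine hmin E inf_le_left ?_ ?_
    · obtain ⟨v, hv, hv0⟩ := Submodule.exists_mem_ne_zero_of_ne_bot hc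
      intro h
      have : (v : W) ∈ E := ⟨v.2, Module.End.mem_eigenspace_iff.2 (congrArg Subtype.val (Module.End.mem_eigenspace_iff.1 hv))⟩
      rw [h, Submodule.mem_bot] at this
      exact hv0 (Subtype.ext this)
    · rintro n v ⟨hv, hv'⟩
      refine ⟨hUπ n v hv, Module.End.mem_eigenspace_iff.2 ?_⟩
      rw [← hz n v hv, Module.End.mem_eigenspace_iff.1 hv', map_smul]
  exact Module.End.mem_eigenspace_iff.1 (hE.symm ▸ hu : u ∈ E).2

theorem rep_commutator_eq_one [Group.IsNilpotent N] (hr : r.Prime) (π : N →* Module.End K W) (σ : MulAut N)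
    (S : Module.End K W) (hS : S ^ r = 1) (hσ : σ ^ r = 1) (hSπ : ∀ n, S * π n = π (σ n) * S)
    (hfpf : ∀ k, 0 < k → k < r → ∀ n, (σ ^ k) n = n → n = 1) (hNK : (Nat.card N : K) ≠ 0)
    (hrank : Module.finrank K (LinearMap.ker (S - 1)) ≤ 1) : ∀ d ∈ commutator N, π d = 1 := by
  classical
  have := Fintype.ofFinite (commutator N)
  have hDK : (Fintype.card (commutator N) : K) ≠ 0 := fun h => hNK (by
    obtain ⟨t, ht⟩ := Subgroup.card_subgroup_dvd_card (commutator N)
    rw [ht, Nat.card_eq_fintype_card, Nat.cast_mul, h, zero_mul])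
  let A : Module.End K W := ∑ d : commutator N, π d
  have hAn : ∀ n, π n * A = A * π n := by
    intro n
    rw [Finset.mul_sum, Finset.sum_mul]
    refine Fintype.sum_equiv (MulAut.conjNormal n : MulAut (commutator N)).toEquiv _ _ fun d => ?_
    simp [← map_mul, MulAut.conjNormal_apply]
  have hAd : ∀ d : commutator N, π d * A = A := fun d => by
    rw [Finset.mul_sum]
    simp only [← map_mul, ← Subgroup.coe_mul]
    exact Equiv.sum_comp (Equiv.mulLeft d) (fun e => π e)
  have hA2 : A * A = (Fintype.card (commutator N) : K) • A := by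
    conv_lhs => arg 1; simp only [A]
    rw [Finset.sum_mul, Finset.sum_congr rfl fun d _ => hAd d, Finset.sum_const, Finset.card_univ, Nat.cast_smul_eq_nsmul]
  have hSk : ∀ (k : ℕ) (h : N), S ^ k * π h = π ((σ ^ k) h) * S ^ k := by
    intro k
    induction k with
    | zero => intro h; simp
    | succ k ih =>
      intro h
      rw [pow_succ', mul_assoc, ih h, ← mul_assoc, hSπ, mul_assoc]
      rw [pow_succ' σ, MulAut.mul_apply]
  by_contra hcon
  push Not at hcon
  obtain ⟨d1, hd1, hd1'⟩ := hcon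
  set W' := LinearMap.ker A with hW'
  have hW'0 : W' ≠ ⊥ := by
    intro h
    apply hd1'
    refine LinearMap.ext fun w => ?_
    have h1 : (Fintype.card (commutator N) : K) • w - A w ∈ W' := by
      rw [hW', LinearMap.mem_ker, map_sub, map_smul, ← Module.End.mul_apply, hA2, LinearMap.smul_apply, sub_self]
    rw [h, Submodule.mem_bot, sub_eq_zero] at h1
    refine smul_right_injective W hDK ?_
    show (Fintype.card (commutator N) : K) • π d1 w = (Fintype.card (commutator N) : K) • w
    rw [← map_smul, h1, ← Module.End.mul_apply, hAd ⟨d1, hd1⟩]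
  have hex : ∃ m, ∃ U : Submodule K W, U ≠ ⊥ ∧ U ≤ W' ∧ (∀ n, ∀ u ∈ U, π n u ∈ U) ∧ Module.finrank K U = m := by
    refine ⟨_, W', hW'0, le_rfl, fun n u hu => ?_, rfl⟩
    rw [hW', LinearMap.mem_ker] at hu ⊢
    rw [← Module.End.mul_apply, ← hAn, Module.End.mul_apply, hu, map_zero]
  obtain ⟨U, hU0, hUW, hUπ, hUd⟩ := Nat.find_spec hex
  have hmin : ∀ U' : Submodule K W, U' ≤ U → U' ≠ ⊥ → (∀ n, ∀ u ∈ U', π n u ∈ U') → U' = U := by
    intro U' h1 h2 h3
    refine Submodule.eq_of_le_of_finrank_le h1 ?_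
    rw [hUd]
    exact Nat.find_min' hex ⟨U', h2, h1.trans hUW, h3, rfl⟩
  -- `commutator N` acts nontrivially on `U`
  have hDU : ∃ d ∈ commutator N, ∃ u ∈ U, π d u ≠ u := by
    by_contra h
    push Not at h
    obtain ⟨u, hu, hu0⟩ := Submodule.exists_mem_ne_zero_of_ne_bot hU0
    have h1 : A u = 0 := hUW hu
    rw [LinearMap.sum_apply, Finset.sum_congr rfl fun (d : commutator N) _ => h d d.2 u hu, Finset.sum_const,
      Finset.card_univ, ← Nat.cast_smul_eq_nsmul K, smul_eq_zero, or_iff_right hDK] at h1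
    exact hu0 h1
  obtain ⟨d0, hd0, u0, hu0, hd0u⟩ := hDU
  let M : Subgroup N :=
    { carrier := {n | ∀ u ∈ U, π n u = u}
      one_mem' := fun u _ => by simp
      mul_mem' := fun {a b} ha hb u hu => by rw [map_mul, Module.End.mul_apply, hb u hu, ha u hu]
      inv_mem' := fun {a} ha u hu => by
        conv_lhs => rw [← ha u hu]
        rw [← Module.End.mul_apply, ← map_mul, inv_mul_cancel, map_one, Module.End.one_apply] }
  have hMn : M.Normal := ⟨fun a ha g u hu => by
    rw [map_mul, map_mul, Module.End.mul_apply, Module.End.mul_apply, ha _ (hUπ g⁻¹ u hu),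
      ← Module.End.mul_apply, ← map_mul, mul_inv_cancel, map_one, Module.End.one_apply]⟩
  -- no twist of `U` by a nontrivial power of `σ` is isomorphic to `U`
  have hnoiso : ∀ k, 0 < k → k < r → ∀ ψ : U →ₗ[K] U, (∀ n, ∀ u : U,
      ψ ⟨π n u, hUπ n u u.2⟩ = ⟨π ((σ ^ k) n) (ψ u : W), hUπ _ _ (ψ u).2⟩) → ψ = 0 := by
    intro k hk0 hkr ψ hψ
    by_contra hψ0
    have hinj : LinearMap.ker ψ = ⊥ := by
      have h1 := hmin ((LinearMap.ker ψ).map U.subtype) (Submodule.map_subtype_le _ _)
      by_contra hne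
      refine hψ0 (LinearMap.ext fun u => ?_)
      have h2 := h1 (fun h => hne (Submodule.map_injective_of_injective U.subtype_injective (h.trans (Submodule.map_bot _).symm)))
        (by
          rintro n _ ⟨v, hv, rfl⟩
          refine ⟨⟨π n v, hUπ n v v.2⟩, ?_, rfl⟩
          rw [SetLike.mem_coe, LinearMap.mem_ker] at hv ⊢
          rw [hψ n v]
          exact Subtype.ext (by simp [hv]))
      obtain ⟨v, hv, hvu⟩ := (h2.symm ▸ u.2 : (u : W) ∈ (LinearMap.ker ψ).map U.subtype)
      rw [← show v = u from Subtype.ext hvu]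
      exact hv
    have hsurj : Function.Surjective ψ :=
      LinearMap.surjective_of_injective (LinearMap.ker_eq_bot.1 hinj)
    have hMσ : ∀ n, n ∈ M ↔ (σ ^ k) n ∈ M := by
      intro n
      constructor
      · intro hn u hu
        obtain ⟨v, hv⟩ := hsurj ⟨u, hu⟩
        have h1 := hψ n v
        rw [show (⟨π n v, hUπ n v v.2⟩ : U) = v from Subtype.ext (hn v v.2), hv] at h1
        exact (congrArg Subtype.val h1).symm
      · intro hn u hu
        have h1 := hψ n ⟨u, hu⟩
        have h2 : ψ ⟨π n u, hUπ n u hu⟩ = ψ ⟨u, hu⟩ := h1.trans (Subtype.ext (hn _ (ψ _).2))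
        exact congrArg Subtype.val (LinearMap.ker_eq_bot.1 hinj h2)
    have hnt : Nontrivial (N ⧸ M) := (QuotientGroup.nontrivial_iff).2 fun h => hd0u ((h ▸ Subgroup.mem_top d0 : d0 ∈ M) u0 hu0)
    obtain ⟨zq, hzq, hzq1⟩ : ∃ zq : N ⧸ M, zq ∈ Subgroup.center (N ⧸ M) ∧ zq ≠ 1 := by
      haveI : Group.IsNilpotent (N ⧸ M) := Group.nilpotent_quotient_of_nilpotent M
      by_contra h
      push Not at h
      have h1 : Subgroup.center (N ⧸ M) = ⊥ := (Subgroup.eq_bot_iff_forall _).2 h
      have h2 : ∀ i, Subgroup.upperCentralSeries (N ⧸ M) i = ⊥ := by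
        intro i
        induction i with
        | zero => rfl
        | succ i ih =>
          refine (Subgroup.eq_bot_iff_forall _).2 fun x hx => ?_
          rw [Subgroup.mem_upperCentralSeries_succ_iff] at hx
          refine (Subgroup.eq_bot_iff_forall _).1 h1 x (Subgroup.mem_center_iff.2 fun y => ?_)
          have h3 := hx y
          rw [ih, Subgroup.mem_bot] at h3
          try rw [commutatorElement_def] at h3
          calc y * x = (x * y * x⁻¹ * y⁻¹)⁻¹ * (x * y) := by group
            _ = x * y := by rw [h3, inv_one, one_mul]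
      obtain ⟨i, hi⟩ := Group.IsNilpotent.nilpotent (N ⧸ M)
      exact bot_ne_top ((h2 i).symm.trans hi)
    obtain ⟨z, rfl⟩ := QuotientGroup.mk_surjective zq
    obtain ⟨c, hc⟩ := exists_scalar_of_central hU0 π hUπ hmin z (fun n u hu => by
      have h1 : ((n * z : N) : N ⧸ M) = ((z * n : N) : N ⧸ M) := Subgroup.mem_center_iff.1 hzq (n : N ⧸ M)
      have h2 := QuotientGroup.eq.1 h1 u hu
      rw [← Module.End.mul_apply, ← Module.End.mul_apply, ← map_mul, ← map_mul]
      conv_rhs => rw [show z * n = n * z * ((n * z)⁻¹ * (z * n)) by group, map_mul, Module.End.mul_apply, h2])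
    have hzz : (σ ^ k) z * z⁻¹ ∈ M := by
      intro u hu
      obtain ⟨v, hv⟩ := hsurj ⟨u, hu⟩
      have h1 := congrArg Subtype.val (hψ z v)
      rw [show (⟨π z v, hUπ z v v.2⟩ : U) = c • v from Subtype.ext (hc v v.2), map_smul, hv] at h1
      have h2 : c • π z⁻¹ u = u := by
        rw [← map_smul, ← hc u hu, ← Module.End.mul_apply, ← map_mul, inv_mul_cancel, map_one, Module.End.one_apply]
      rw [map_mul, Module.End.mul_apply]
      conv_rhs => rw [← h2]
      have h4 : ∀ w ∈ U, π ((σ ^ k) z) w = c • w := fun w hw => by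
        obtain ⟨v', hv'⟩ := hsurj ⟨w, hw⟩
        have h5 := congrArg Subtype.val (hψ z v')
        rw [show (⟨π z v', hUπ z v' v'.2⟩ : U) = c • v' from Subtype.ext (hc v' v'.2), map_smul, hv'] at h5
        exact h5.symm
      exact h4 _ (hUπ _ u hu)
    have hinjM : Function.Injective fun m : M => (⟨(σ ^ k) m * (m : N)⁻¹, M.mul_mem ((hMσ m).1 m.2) (M.inv_mem m.2)⟩ : M) := by
      intro a b hab
      have h1 : (σ ^ k) (a : N) * (a : N)⁻¹ = (σ ^ k) (b : N) * (b : N)⁻¹ := congrArg Subtype.val hab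
      have h2 : (σ ^ k) ((b : N)⁻¹ * a) = (b : N)⁻¹ * a := by
        rw [map_mul, map_inv]
        calc ((σ ^ k) (b : N))⁻¹ * (σ ^ k) (a : N) = ((σ ^ k) (b : N))⁻¹ * ((σ ^ k) (a : N) * (a : N)⁻¹) * a := by group
          _ = (b : N)⁻¹ * a := by rw [h1]; group
      exact Subtype.ext (inv_mul_eq_one.1 (hfpf k hk0 hkr _ h2)).symm
    obtain ⟨m, hm⟩ := (Finite.injective_iff_surjective.1 hinjM) ⟨_, hzz⟩
    have hm' : (σ ^ k) (m : N) * (m : N)⁻¹ = (σ ^ k) z * z⁻¹ := congrArg Subtype.val hm
    have h3 : (σ ^ k) ((m : N)⁻¹ * z) = (m : N)⁻¹ * z := by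
      rw [map_mul, map_inv]
      calc ((σ ^ k) (m : N))⁻¹ * (σ ^ k) z = ((σ ^ k) (m : N))⁻¹ * ((σ ^ k) z * z⁻¹) * z := by group
        _ = (m : N)⁻¹ * z := by rw [← hm']; group
    have h4 := inv_mul_eq_one.1 (hfpf k hk0 hkr _ h3)
    exact hzq1 ((QuotientGroup.eq_one_iff z).2 (h4 ▸ m.2))
  -- the translates of `U` are independent
  have hindep : ∀ s : Finset ℕ, s ⊆ range r → ∀ v : ℕ → U, (∑ i ∈ s, (S ^ i) (v i : W)) = 0 → ∀ i ∈ s, v i = 0 := by
    intro s
    induction s using Finset.induction_on with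
    | empty => simp
    | insert a s has ih =>
      intro hsr v hv
      rw [Finset.insert_subset_iff] at hsr
      rw [Finset.sum_insert has] at hv
      have ih' := ih hsr.2
      suffices hva : v a = 0 by
        intro i hi
        rw [Finset.mem_insert] at hi
        rcases hi with rfl | hi
        · exact hva
        · refine ih' v ?_ i hi
          rwa [hva, Submodule.coe_zero, map_zero, zero_add] at hv
      have hSinj : Function.Injective (S ^ a) := by
        intro p q hpq
        have h1 : S ^ (r - a) * S ^ a = 1 := by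
          rw [← pow_add, Nat.sub_add_cancel (Finset.mem_range.1 hsr.1).le, hS]
        have h2 := congrArg (S ^ (r - a)) hpq
        rwa [← Module.End.mul_apply, ← Module.End.mul_apply, h1, Module.End.one_apply, Module.End.one_apply] at h2
      -- the vectors of `U` expressible by the other translates
      let Φ : (s → U) →ₗ[K] W := ∑ i : s, ((S ^ (i : ℕ)).comp U.subtype).comp (LinearMap.proj i)
      have hΦ : ∀ g : s → U, Φ g = ∑ i : s, (S ^ (i : ℕ)) (g i : W) := fun g => by simp [Φ]
      have hΦv : ∀ f : ℕ → U, Φ (fun i : s => f i) = ∑ i ∈ s, (S ^ i) (f i : W) := fun f => by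
        rw [hΦ]; exact Finset.sum_coe_sort s (fun i => (S ^ i) (f i : W))
      have hΦinj : Function.Injective Φ := by
        refine (injective_iff_map_eq_zero Φ).2 fun g hg => funext fun i => ?_
        have h1 := ih' (fun j => if h : j ∈ s then g ⟨j, h⟩ else 0) (by
          rw [← hΦv]; convert hg using 2; funext j; simp [j.2]) i i.2
        simpa [i.2] using h1
      let V0 : Submodule K W := U ⊓ (LinearMap.range Φ).comap (S ^ a)
      have hV0 : ∀ n, ∀ u ∈ V0, π n u ∈ V0 := by
        rintro n u ⟨hu, g, hg⟩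
        refine ⟨hUπ n u hu, fun i => ⟨π (((σ ^ (i : ℕ))⁻¹ * σ ^ a) n) (g i : W), hUπ _ _ (g i).2⟩, ?_⟩
        show Φ _ = (S ^ a) (π n u)
        rw [← Module.End.mul_apply, hSk, Module.End.mul_apply, ← hg, hΦ, hΦ, map_sum]
        refine Finset.sum_congr rfl fun i _ => ?_
        rw [← Module.End.mul_apply, hSk, Module.End.mul_apply, MulAut.mul_apply, MulAut.inv_def, MulEquiv.apply_symm_apply]
      by_cases hV0b : V0 = ⊥
      · refine Subtype.ext ((Submodule.eq_bot_iff _).1 hV0b _ ⟨(v a).2, fun i => - v i, ?_⟩)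
        show Φ _ = (S ^ a) (v a : W)
        rw [hΦ]
        simp only [Submodule.coe_neg, map_neg, Finset.sum_neg_distrib]
        rw [Finset.sum_coe_sort s (fun i => (S ^ i) (v i : W))]
        exact (eq_neg_of_add_eq_zero_left hv).symm
      have hV0U := hmin V0 inf_le_left hV0b hV0
      have hg : ∀ u : U, ∃ g : s → U, Φ g = (S ^ a) (u : W) := fun u => (hV0U.symm ▸ u.2 : (u : W) ∈ V0).2
      choose g hg using hg
      let ψ : U →ₗ[K] (s → U) :=
        { toFun := g
          map_add' := fun u u' => hΦinj (by rw [map_add, hg, hg, hg, Submodule.coe_add, map_add])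
          map_smul' := fun c u => hΦinj (by rw [map_smul, hg, hg, RingHom.id_apply, Submodule.coe_smul, map_smul]) }
      have hzero : ∀ i : s, (LinearMap.proj i).comp ψ = 0 := by
        intro i
        have hia : (i : ℕ) ≠ a := fun e => has (e ▸ i.2)
        have hir := Finset.mem_range.1 (hsr.2 i.2)
        have har := Finset.mem_range.1 hsr.1
        obtain ⟨k, hk0, hkr, hk⟩ : ∃ k, 0 < k ∧ k < r ∧ σ ^ k = (σ ^ (i : ℕ))⁻¹ * σ ^ a := by
          rcases lt_or_gt_of_ne hia with h | h
          · exact ⟨a - i, by omega, by omega, by rw [eq_inv_mul_iff_mul_eq, ← pow_add]; congr 1; omega⟩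
          · refine ⟨a + r - i, by omega, by omega, ?_⟩
            rw [eq_inv_mul_iff_mul_eq, ← pow_add, show (i : ℕ) + (a + r - i) = a + r by omega, pow_add, hσ, mul_one]
        refine hnoiso k hk0 hkr _ fun n u => ?_
        show g ⟨π n u, hUπ n u u.2⟩ i = _
        have h1 : g ⟨π n u, hUπ n u u.2⟩ = fun j => ⟨π (((σ ^ (j : ℕ))⁻¹ * σ ^ a) n) (g u j : W), hUπ _ _ (g u j).2⟩ := by
          refine hΦinj ?_
          rw [hg]
          show (S ^ a) (π n (u : W)) = _
          rw [← Module.End.mul_apply, hSk, Module.End.mul_apply, ← hg, hΦ, hΦ, map_sum]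
          refine Finset.sum_congr rfl fun j _ => ?_
          rw [← Module.End.mul_apply _ (π _), hSk, Module.End.mul_apply, MulAut.mul_apply, MulAut.inv_def, MulEquiv.apply_symm_apply]
        rw [h1]
        refine Subtype.ext ?_
        show π _ (g u i : W) = π _ (g u i : W)
        rw [hk]
      have h2 : g (v a) = 0 := funext fun i => LinearMap.congr_fun (hzero i) (v a)
      have h3 := hg (v a)
      rw [h2, map_zero] at h3
      exact Subtype.ext (hSinj (h3.symm.trans (map_zero (S ^ a)).symm))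
  -- hence `U` is a line
  let Ψ : U →ₗ[K] W := ∑ i ∈ range r, (S ^ i).comp U.subtype
  have hΨ : ∀ u : U, Ψ u = ∑ i ∈ range r, (S ^ i) (u : W) := fun u => by simp [Ψ]
  have hΨker : ∀ u, Ψ u ∈ LinearMap.ker (S - 1) := fun u => by
    rw [LinearMap.mem_ker, LinearMap.sub_apply, Module.End.one_apply, sub_eq_zero, hΨ, map_sum]
    have h1 := Finset.sum_range_succ' (fun k => (S ^ k) (u : W)) r
    rw [Finset.sum_range_succ, hS] at h1
    simp only [pow_zero] at h1
    rw [add_right_cancel h1]
    exact Finset.sum_congr rfl fun k _ => by rw [← Module.End.mul_apply, ← pow_succ']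
  have hΨinj : Function.Injective (Ψ.codRestrict _ hΨker) := by
    refine (injective_iff_map_eq_zero _).2 fun u hu => ?_
    refine hindep (range r) subset_rfl (fun _ => u) ?_ 0 (Finset.mem_range.2 hr.pos)
    rw [← hΨ]; exact congrArg Subtype.val hu
  haveI : Nontrivial U := Submodule.nontrivial_iff_ne_bot.2 hU0
  have hU1 : Module.finrank K U ≤ 1 := (LinearMap.finrank_le_finrank_of_injective hΨinj).trans hrank
  obtain ⟨e, he0⟩ := exists_ne (0 : U)
  have hline : ∀ u : U, ∃ c : K, c • e = u := fun u => by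
    have h1 : Module.finrank K U = 1 := le_antisymm hU1 (Module.finrank_pos)
    exact (finrank_eq_one_iff_of_nonzero' e he0).1 h1 u
  have hDM : commutator N ≤ M := by
    rw [commutator_def, Subgroup.commutator_le]
    intro x _ y _ u hu
    obtain ⟨a, ha⟩ := hline ⟨π x e, hUπ x e e.2⟩
    obtain ⟨b, hb⟩ := hline ⟨π y e, hUπ y e e.2⟩
    have ha' : π x (e : W) = a • (e : W) := (congrArg Subtype.val ha).symm
    have hb' : π y (e : W) = b • (e : W) := (congrArg Subtype.val hb).symm
    have hcm : ∀ w ∈ U, π (x * y) w = π (y * x) w := by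
      intro w hw
      obtain ⟨c, hc⟩ := hline ⟨w, hw⟩
      have hc' : w = c • (e : W) := (congrArg Subtype.val hc).symm
      simp only [hc', map_mul, Module.End.mul_apply, map_smul, ha', hb', smul_smul]
      ring_nf
    rw [commutatorElement_def, show x * y * x⁻¹ * y⁻¹ = (x * y) * (y * x)⁻¹ by group, map_mul, Module.End.mul_apply,
      hcm _ (hUπ _ u hu), ← Module.End.mul_apply, ← map_mul, mul_inv_cancel, map_one, Module.End.one_apply]
  exact hd0u (hDM hd0 u0 hu0)

end Cfsg.Agent.HallHigman
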