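import Mathlib

/-! Endomorphisms of finite order prime to the characteristic: eigenspaces and the size of the centralizer. -/

namespace Cfsg.Agent.HallHigman

open Finset

variable {K W : Type*} [Field K] [AddCommGroup W] [Module K W] {r : ℕ} {ζ : K} {S : Module.End K W}

/-- The endomorphisms commuting with `S`. -/
def commutant (S : Module.End K W) : Submodule K (Module.End K W) where
  carrier := {f | S * f = f * S}
  zero_mem' := by simp
  add_mem' := fun {a b} ha hb => by
    show S * (a + b) = (a + b) * S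
    rw [mul_add, add_mul, ha, hb]
  smul_mem' := fun c a ha => by
    show S * (c • a) = (c • a) * S
    rw [mul_smul_comm, smul_mul_assoc, ha]

theorem mem_commutant {f : Module.End K W} : f ∈ commutant S ↔ S * f = f * S := Iff.rfl

theorem geom_ite (hζ : IsPrimitiveRoot ζ r) (hr : 0 < r) (i j : Fin r) :
    ∑ k ∈ range r, ((ζ⁻¹) ^ (i : ℕ) * ζ ^ (j : ℕ)) ^ k = if i = j then (r : K) else 0 := by
  split_ifs with h
  · subst h
    rw [← mul_pow, inv_mul_cancel₀ (hζ.ne_zero hr.ne'), one_pow]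
    simp
  · have hne : (ζ⁻¹) ^ (i : ℕ) * ζ ^ (j : ℕ) ≠ 1 := fun e => h (Fin.ext (by
      rw [inv_pow, inv_mul_eq_one₀ (pow_ne_zero _ (hζ.ne_zero hr.ne'))] at e
      exact hζ.pow_inj i.2 j.2 e))
    rw [_root_.geom_sum_eq hne]
    rw [mul_pow, ← pow_mul, ← pow_mul, mul_comm (i : ℕ), mul_comm (j : ℕ), pow_mul, pow_mul,
      inv_pow, hζ.pow_eq_one]
    simp

variable (ζ S) in
/-- The projection on the eigenspace of `ζ ^ i`. -/
noncomputable def proj (i : Fin r) : Module.End K W :=
  (r : K)⁻¹ • ∑ k ∈ range r, ((ζ⁻¹) ^ (i : ℕ)) ^ k • S ^ k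

theorem pow_apply_of_eigen {c : K} {v : W} (hv : S v = c • v) (k : ℕ) : (S ^ k) v = c ^ k • v := by
  induction k with
  | zero => simp
  | succ k ih => rw [pow_succ', Module.End.mul_apply, ih, map_smul, hv, smul_smul, pow_succ]

theorem proj_apply_of_eigen (hζ : IsPrimitiveRoot ζ r) (hr0 : (r : K) ≠ 0) (i j : Fin r) {v : W}
    (hv : S v = ζ ^ (j : ℕ) • v) : proj ζ S i v = if i = j then v else 0 := by
  have hr : 0 < r := i.pos
  have : proj ζ S i v = ((r : K)⁻¹ * ∑ k ∈ range r, ((ζ⁻¹) ^ (i : ℕ) * ζ ^ (j : ℕ)) ^ k) • v := by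
    simp only [proj, LinearMap.smul_apply, LinearMap.sum_apply, pow_apply_of_eigen hv, smul_smul,
      Finset.sum_smul, mul_sum, mul_pow, Finset.smul_sum, mul_assoc]
  rw [this, geom_ite hζ hr]
  split_ifs
  · rw [inv_mul_cancel₀ hr0, one_smul]
  · simp

theorem mul_proj (hζ : IsPrimitiveRoot ζ r) (hS : S ^ r = 1) (i : Fin r) :
    S * proj ζ S i = ζ ^ (i : ℕ) • proj ζ S i := by
  have hz : ζ ^ (i : ℕ) ≠ 0 := pow_ne_zero _ (hζ.ne_zero i.pos.ne')
  set c := (ζ⁻¹) ^ (i : ℕ) with hc
  have h0 : ∑ k ∈ range r, c ^ (k + 1) • S ^ (k + 1) = ∑ k ∈ range r, c ^ k • S ^ k := by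
    have h1 := Finset.sum_range_succ' (fun k => c ^ k • S ^ k) r
    have hcr : c ^ r = 1 := by rw [hc, ← pow_mul, mul_comm, pow_mul, hζ.inv.pow_eq_one, one_pow]
    rw [Finset.sum_range_succ, hS, hcr] at h1
    simp only [pow_zero] at h1
    exact (add_right_cancel h1).symm
  rw [proj, mul_smul_comm, smul_comm (ζ ^ (i : ℕ)), ← hc]
  congr 1
  conv_rhs => rw [← h0, Finset.smul_sum]
  rw [Finset.mul_sum]
  refine Finset.sum_congr rfl fun k _ => ?_
  rw [mul_smul_comm, ← pow_succ', smul_smul, pow_succ' c, ← mul_assoc, hc, inv_pow,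
    mul_inv_cancel₀ hz, one_mul]

theorem proj_mem_eigenspace (hζ : IsPrimitiveRoot ζ r) (hS : S ^ r = 1) (i : Fin r) (v : W) :
    proj ζ S i v ∈ Module.End.eigenspace S (ζ ^ (i : ℕ)) := by
  rw [Module.End.mem_eigenspace_iff, ← Module.End.mul_apply, mul_proj hζ hS, LinearMap.smul_apply]

theorem sum_proj (hζ : IsPrimitiveRoot ζ r) (hr0 : (r : K) ≠ 0) (hr : 0 < r) :
    ∑ i : Fin r, proj ζ S i = 1 := by
  simp only [proj, ← Finset.smul_sum]
  rw [Finset.sum_comm]
  have : ∀ k ∈ range r, ∑ i : Fin r, ((ζ⁻¹) ^ (i : ℕ)) ^ k • S ^ k = (if k = 0 then (r : K) else 0) • S ^ k := by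
    intro k hk
    rw [← Finset.sum_smul]
    congr 1
    have hk' : k < r := Finset.mem_range.1 hk
    rcases eq_or_ne k 0 with rfl | hk0
    · simp
    rw [if_neg hk0, Fin.sum_univ_eq_sum_range (fun i => ((ζ⁻¹) ^ i) ^ k) r]
    have hne : (ζ⁻¹) ^ k ≠ 1 := by
      rw [inv_pow, inv_ne_one]
      exact hζ.pow_ne_one_of_pos_of_lt hk0 hk'
    simp_rw [← pow_mul, mul_comm _ k, pow_mul]
    rw [_root_.geom_sum_eq hne, ← pow_mul, mul_comm, pow_mul, inv_pow, hζ.pow_eq_one]
    simp
  rw [Finset.sum_congr rfl this]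
  simp [ite_smul, hr, smul_smul, inv_mul_cancel₀ hr0]

/-- An endomorphism with `S ^ r = 1` and `S ≠ 1` has an eigenvalue `ζ ^ i`, `i ≠ 0`. -/
theorem exists_eigen_ne (hζ : IsPrimitiveRoot ζ r) (hr0 : (r : K) ≠ 0) (hr : 0 < r) (hS : S ^ r = 1)
    (h1 : S ≠ 1) : ∃ i : Fin r, (i : ℕ) ≠ 0 ∧ Module.End.eigenspace S (ζ ^ (i : ℕ)) ≠ ⊥ := by
  by_contra hno
  push Not at hno
  apply h1
  rw [← mul_one S, ← sum_proj hζ hr0 hr, Finset.mul_sum]
  refine Finset.sum_congr rfl fun i _ => ?_
  by_cases hi : (i : ℕ) = 0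
  · rw [mul_proj hζ hS, hi, pow_zero, one_smul]
  · have : proj ζ S i = 0 := LinearMap.ext fun v => by
      simpa [hno i hi] using proj_mem_eigenspace hζ hS i v
    rw [this, mul_zero]

/-- If the eigenvalues of `S`, `S ^ r = 1`, avoid `ζ ^ i` for `i` outside `T`, the commutant has dimension at
least `(dim W) ^ 2 / |T|`. -/
theorem sq_finrank_le_of_support [FiniteDimensional K W] (hζ : IsPrimitiveRoot ζ r) (hr0 : (r : K) ≠ 0)
    (hr : 0 < r) (hS : S ^ r = 1) (T : Finset (Fin r))
    (h0 : ∀ i ∉ T, ∀ v, S v = ζ ^ (i : ℕ) • v → v = 0) :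
    Module.finrank K W ^ 2 ≤ T.card * Module.finrank K (commutant S) := by
  classical
  set V : Fin r → Submodule K W := fun i => Module.End.eigenspace S (ζ ^ (i : ℕ)) with hV
  have hmem : ∀ i, ∀ v ∈ V i, S v = ζ ^ (i : ℕ) • v := fun i v hv => Module.End.mem_eigenspace_iff.1 hv
  let e : W ≃ₗ[K] ((i : Fin r) → V i) :=
    LinearEquiv.ofLinearMap
      (LinearMap.pi fun i => (proj ζ S i).codRestrict (V i) (proj_mem_eigenspace hζ hS i))
      (∑ i, (V i).subtype ∘ₗ LinearMap.proj i)
      (LinearMap.ext fun x => funext fun j => Subtype.ext (by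
        simp only [LinearMap.coe_comp, Function.comp_apply, LinearMap.sum_apply, LinearMap.pi_apply,
          LinearMap.codRestrict_apply, LinearMap.id_apply, map_sum, Submodule.subtype_apply, LinearMap.proj_apply,
          AddSubmonoidClass.coe_finsetSum]
        rw [Finset.sum_eq_single j (fun i _ hij => by
          rw [proj_apply_of_eigen hζ hr0 j i (hmem i _ (x i).2), if_neg hij.symm]) (by simp),
          proj_apply_of_eigen hζ hr0 j j (hmem j _ (x j).2), if_pos rfl]))
      (LinearMap.ext fun v => by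
        simp only [LinearMap.coe_comp, Function.comp_apply, LinearMap.sum_apply, LinearMap.pi_apply,
          LinearMap.codRestrict_apply, LinearMap.id_apply, Submodule.subtype_apply, LinearMap.proj_apply]
        rw [← LinearMap.sum_apply, sum_proj hζ hr0 hr, Module.End.one_apply])
  have hD : Module.finrank K W = ∑ i, Module.finrank K (V i) := by
    rw [e.finrank_eq, Module.finrank_pi_fintype]
  let L : ((i : Fin r) → Module.End K (V i)) →ₗ[K] Module.End K W :=
    ∑ i : Fin r, (LinearMap.llcomp K W (V i) W (V i).subtype) ∘ₗ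
      (LinearMap.lcomp K (V i) ((proj ζ S i).codRestrict (V i) (proj_mem_eigenspace hζ hS i))) ∘ₗ
      LinearMap.proj i
  have hL : ∀ g v, L g v = ∑ i, ((g i ⟨proj ζ S i v, proj_mem_eigenspace hζ hS i v⟩ : V i) : W) := fun g v => by
    simp only [L, LinearMap.sum_apply, LinearMap.coe_comp, Function.comp_apply, LinearMap.llcomp_apply,
      LinearMap.lcomp_apply, LinearMap.proj_apply, Submodule.subtype_apply]
    rfl
  have hLj : ∀ g j (v : V j), L g (v : W) = (g j v : W) := fun g j v => by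
    rw [hL, Finset.sum_eq_single j (fun i _ hij => by
      have : (⟨proj ζ S i (v : W), proj_mem_eigenspace hζ hS i _⟩ : V i) = 0 := Subtype.ext (by
        show proj ζ S i (v : W) = 0
        rw [proj_apply_of_eigen hζ hr0 i j (hmem j _ v.2), if_neg hij])
      rw [this, map_zero, Submodule.coe_zero]) (by simp)]
    have : (⟨proj ζ S j (v : W), proj_mem_eigenspace hζ hS j _⟩ : V j) = v := Subtype.ext (by
      show proj ζ S j (v : W) = v
      rw [proj_apply_of_eigen hζ hr0 j j (hmem j _ v.2), if_pos rfl])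
    rw [this]
  have hLC : ∀ g, L g ∈ commutant S := by
    intro g
    refine LinearMap.ext fun v => ?_
    rw [show v = ∑ i, proj ζ S i v by rw [← LinearMap.sum_apply, sum_proj hζ hr0 hr, Module.End.one_apply],
      map_sum, map_sum]
    refine Finset.sum_congr rfl fun i _ => ?_
    rw [Module.End.mul_apply, Module.End.mul_apply, hmem i _ (proj_mem_eigenspace hζ hS i v), map_smul,
      hLj g i ⟨_, proj_mem_eigenspace hζ hS i v⟩, hmem i _ (g i _).2]
  have hinj : Function.Injective (L.codRestrict (commutant S) hLC) := by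
    intro g g' h
    refine funext fun j => LinearMap.ext fun v => Subtype.ext ?_
    have := LinearMap.congr_fun (congrArg Subtype.val h) (v : W)
    simpa [hLj] using this
  have hle := LinearMap.finrank_le_finrank_of_injective hinj
  rw [Module.finrank_pi_fintype] at hle
  simp only [Module.finrank_linearMap] at hle
  have hsum : ∑ i, Module.finrank K (V i) = ∑ i ∈ T, Module.finrank K (V i) := by
    refine (Finset.sum_subset (Finset.subset_univ T) fun i _ hi => ?_).symm
    rw [show V i = ⊥ from (Submodule.eq_bot_iff _).2 fun v hv => h0 i hi v (hmem i v hv), finrank_bot]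
  rw [hD, hsum]
  refine sq_sum_le_card_mul_sum_sq.trans (Nat.mul_le_mul le_rfl (le_trans ?_ hle))
  refine le_trans (Finset.sum_le_sum_of_subset (Finset.subset_univ T)) (le_of_eq ?_)
  simp [pow_two]

/-- If `S ^ r = 1` and `S` has no fixed vector, its commutant has dimension at least `(dim W) ^ 2 / (r - 1)`. -/
theorem sq_finrank_le [FiniteDimensional K W] (hζ : IsPrimitiveRoot ζ r) (hr0 : (r : K) ≠ 0) (hr : 0 < r)
    (hS : S ^ r = 1) (hfix : ∀ v, S v = v → v = 0) :
    Module.finrank K W ^ 2 ≤ (r - 1) * Module.finrank K (commutant S) := by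
  classical
  have h := sq_finrank_le_of_support hζ hr0 hr hS (Finset.univ.erase ⟨0, hr⟩) fun i hi v hv => hfix v (by
    have : i = ⟨0, hr⟩ := by simpa using hi
    rw [hv, this, pow_zero, one_smul])
  rwa [Finset.card_erase_of_mem (Finset.mem_univ _), Finset.card_univ, Fintype.card_fin] at h

end Cfsg.Agent.HallHigman
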