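import Mathlib

/-! If a semiregular automorphism of `Q` is induced by a fixed-point-free operator, then `Q` acts trivially. -/

namespace Cfsg.Agent.HallHigman

open Finset

variable {K W Q : Type*} [Field K] [AddCommGroup W] [Module K W] [Group Q] [Finite Q] {r : ℕ}

theorem sum_pow_apply_eq_zero (S : Module.End K W) (hS : S ^ r = 1) (hfix : ∀ v, S v = v → v = 0) (v : W) :
    ∑ k ∈ range r, (S ^ k) v = 0 := by
  apply hfix
  rw [map_sum]
  have h1 := Finset.sum_range_succ' (fun k => (S ^ k) v) r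
  rw [Finset.sum_range_succ, hS] at h1
  simp only [pow_zero] at h1
  rw [add_right_cancel h1]
  exact Finset.sum_congr rfl fun k _ => by rw [← Module.End.mul_apply, ← pow_succ']

/-- The Frobenius-kernel lemma: if `σ` (of order dividing `r`) is semiregular on `Q` and is induced by a
fixed-point-free `S` with `S ^ r = 1`, then `Q` acts trivially, `|Q|` being invertible in `K`. -/
theorem rep_eq_one_of_semiregular (π : Q →* Module.End K W) (σ : MulAut Q) (S : Module.End K W) (hr : 0 < r)
    (hS : S ^ r = 1) (hSπ : ∀ g, S * π g = π (σ g) * S) (hfix : ∀ v, S v = v → v = 0)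
    (hfpf : ∀ k, 0 < k → k < r → ∀ g, (σ ^ k) g = g → g = 1) (hQK : (Nat.card Q : K) ≠ 0) (g : Q) :
    π g = 1 := by
  classical
  have := Fintype.ofFinite Q
  have hSk : ∀ (k : ℕ) (h : Q), S ^ k * π h = π ((σ ^ k) h) * S ^ k := by
    intro k
    induction k with
    | zero => intro h; simp
    | succ k ih =>
      intro h
      rw [pow_succ', mul_assoc, ih h, ← mul_assoc, hSπ, mul_assoc]
      rw [pow_succ' σ, MulAut.mul_apply]
  let N : Module.End K W := ∑ h : Q, π h
  have hN : ∀ v, N v = (Fintype.card Q : K) • v := by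
    intro v
    have hz : ∀ h : Q, ∑ k ∈ range r, (π h * S ^ k * π h⁻¹) v = 0 := fun h => by
      simp only [Module.End.mul_apply, ← map_sum, sum_pow_apply_eq_zero S hS hfix, map_zero]
    have hk : ∀ k, 0 < k → k < r → ∑ h : Q, π h * S ^ k * π h⁻¹ = N * S ^ k := by
      intro k hk0 hkr
      simp only [mul_assoc, hSk, N, Finset.sum_mul]
      simp only [← mul_assoc, ← map_mul]
      refine Equiv.sum_comp (Equiv.ofBijective (fun h => h * (σ ^ k) h⁻¹) ?_) (fun h => π h * S ^ k)
      refine Finite.injective_iff_bijective.1 fun a b hab => ?_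
      have h1 : (σ ^ k) (b⁻¹ * a) = b⁻¹ * a := by
        simp only [map_inv] at hab
        rw [map_mul, map_inv]
        calc ((σ ^ k) b)⁻¹ * (σ ^ k) a = b⁻¹ * (b * ((σ ^ k) b)⁻¹) * (σ ^ k) a := by group
          _ = b⁻¹ * (a * ((σ ^ k) a)⁻¹) * (σ ^ k) a := by rw [hab]
          _ = b⁻¹ * a := by group
      exact (inv_mul_eq_one.1 (hfpf k hk0 hkr _ h1)).symm
    have h0 : ∑ h : Q, ∑ k ∈ range r, (π h * S ^ k * π h⁻¹) v = 0 :=
      Finset.sum_eq_zero fun h _ => hz h
    rw [Finset.sum_comm, Finset.range_eq_Ico, Finset.sum_eq_sum_Ico_succ_bot hr] at h0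
    have h1 : ∑ k ∈ Ico 1 r, ∑ h : Q, (π h * S ^ k * π h⁻¹) v = ∑ k ∈ Ico 1 r, N ((S ^ k) v) := by
      refine Finset.sum_congr rfl fun k hk' => ?_
      rw [Finset.mem_Ico] at hk'
      rw [← LinearMap.sum_apply, hk k hk'.1 hk'.2, Module.End.mul_apply]
    have h2 : ∑ k ∈ Ico 1 r, (S ^ k) v = -v := by
      have := sum_pow_apply_eq_zero S hS hfix v
      rw [Finset.range_eq_Ico, Finset.sum_eq_sum_Ico_succ_bot hr, pow_zero, Module.End.one_apply] at this
      exact eq_neg_of_add_eq_zero_right this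
    rw [h1, ← map_sum, h2, map_neg] at h0
    simp only [pow_zero, mul_one, ← map_mul, mul_inv_cancel, map_one, Module.End.one_apply, Finset.sum_const,
      Finset.card_univ] at h0
    rw [Nat.cast_smul_eq_nsmul]
    exact (add_neg_eq_zero.1 h0).symm
  refine LinearMap.ext fun v => ?_
  have h1 : π g (N v) = N v := by
    rw [← Module.End.mul_apply, Finset.mul_sum]
    simp only [← map_mul]
    rw [show ∑ h : Q, π (g * h) = N from Equiv.sum_comp (Equiv.mulLeft g) (fun h => π h)]
  rw [hN, map_smul] at h1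
  exact smul_right_injective W (by rwa [← Nat.card_eq_fintype_card]) h1

end Cfsg.Agent.HallHigman
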