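import Cfsg.Agent.Lib.HallHigman.Unipotent

/-!
# Hall–Higman Theorem B, the `q`-group core (`p` odd)

`theorem_b_core`: if `S` (with `S ^ (p ^ n) = 1`, characteristic `p`) induces `σ` on a `q`-group `Q` acting on `W`
and `σ ^ (p ^ (n - 1))` does not act trivially on the image of `Q`, then `(S - 1) ^ (p ^ n - 1) = 0` forces
`q = 2`, `p` a Fermat prime and `Q` non-abelian.
-/

set_option autoImplicit false
set_option linter.style.haveILetI false

namespace Cfsg.Agent.HallHigman

open Finset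
open scoped commutatorElement

universe u v w

variable {K : Type w} [Field K] {p : ℕ} [Fact p.Prime] [CharP K p]

/-- In characteristic `p`, `(S - 1) ^ (p ^ j - 1)` is the sum of the powers of `S` below `p ^ j`. -/
theorem sub_one_pow_eq_sum {W : Type*} [AddCommGroup W] [Module K W] (S : Module.End K W) (j : ℕ) :
    (S - 1) ^ (p ^ j - 1) = ∑ k ∈ range (p ^ j), S ^ k := by
  have h : ((Polynomial.X : Polynomial K) - 1) ^ (p ^ j - 1) =
      ∑ k ∈ range (p ^ j), (Polynomial.X : Polynomial K) ^ k := by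
    refine mul_right_cancel₀ (Polynomial.X_sub_C_ne_zero (1 : K)) ?_
    rw [map_one, ← pow_succ, Nat.sub_add_cancel (Nat.one_le_pow _ _ (Fact.out : p.Prime).pos), geom_sum_mul,
      sub_pow_char_pow, one_pow]
  have h' := congrArg (Polynomial.aeval S) h
  simpa using h'

theorem map_pow_of_map {Q : Type*} [Group Q] {W : Type*} [AddCommGroup W] [Module K W]
    (π : Q →* Module.End K W) (σ : MulAut Q) (S : Module.End K W) (hSπ : ∀ g, S * π g = π (σ g) * S)
    (k : ℕ) : ∀ h : Q, S ^ k * π h = π ((σ ^ k) h) * S ^ k := by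
  induction k with
  | zero => intro h; simp
  | succ k ih =>
    intro h
    rw [pow_succ', mul_assoc, ih h, ← mul_assoc, hSπ, mul_assoc, pow_succ' σ, MulAut.mul_apply]

/-- If `σ` is semiregular on `Q` and is induced by `S` with `1 + S + ⋯ + S ^ (r - 1) = 0`, then `Q` acts trivially. -/
theorem rep_eq_one_of_sum_eq_zero {Q : Type*} [Group Q] [Finite Q] {W : Type*} [AddCommGroup W] [Module K W]
    (π : Q →* Module.End K W) (σ : MulAut Q) (S : Module.End K W) {r : ℕ} (hr : 0 < r)
    (hSπ : ∀ g, S * π g = π (σ g) * S) (hsum : ∑ k ∈ range r, S ^ k = 0)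
    (hfpf : ∀ k, 0 < k → k < r → ∀ g, (σ ^ k) g = g → g = 1) (hQK : (Nat.card Q : K) ≠ 0) (g : Q) :
    π g = 1 := by
  classical
  have := Fintype.ofFinite Q
  have hSk := map_pow_of_map π σ S hSπ
  let N : Module.End K W := ∑ h : Q, π h
  have hk : ∀ k, 0 < k → k < r → ∑ h : Q, π h * S ^ k * π h⁻¹ = N * S ^ k := by
    intro k hk0 hkr
    simp only [mul_assoc, hSk, N, Finset.sum_mul]
    simp only [← mul_assoc, ← map_mul]
    refine Equiv.sum_comp (Equiv.ofBijective (fun h => h * (σ ^ k) h⁻¹) ?_) (fun h => π h * S ^ k)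
    refine Finite.injective_iff_bijective.1 fun a b hab => ?_
    have h1 : (σ ^ k) (b⁻¹ * a) = b⁻¹ * a := by
      simp only [map_inv] at hab
      rw [map_mul, map_inv]
      have h2 : b⁻¹ * a = ((σ ^ k) b)⁻¹ * (σ ^ k) a := by
        calc b⁻¹ * a = b⁻¹ * (a * ((σ ^ k) a)⁻¹) * (σ ^ k) a := by group
          _ = _ := by rw [hab]; group
      exact h2.symm
    have := hfpf k hk0 hkr _ h1
    exact (inv_mul_eq_one.1 this).symm
  have hN : N = (Fintype.card Q : K) • 1 := by
    have e : ∑ h : Q, π h * (∑ k ∈ range r, S ^ k) * π h⁻¹ =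
        ∑ k ∈ range r, ∑ h : Q, π h * S ^ k * π h⁻¹ := by
      simp only [Finset.mul_sum, Finset.sum_mul]
      exact Finset.sum_comm
    rw [hsum] at e
    simp only [mul_zero, zero_mul, Finset.sum_const_zero] at e
    obtain ⟨s, rfl⟩ : ∃ s, r = s + 1 := ⟨r - 1, (Nat.sub_add_cancel hr).symm⟩
    rw [Finset.sum_range_succ', Finset.sum_congr rfl fun k hk' => hk (k + 1) (by omega)
      (by have := Finset.mem_range.1 hk'; omega), ← Finset.mul_sum] at e
    have h0 : ∑ h : Q, π h * S ^ 0 * π h⁻¹ = (Fintype.card Q : K) • 1 := by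
      simp only [pow_zero, mul_one, ← map_mul, mul_inv_cancel, map_one, Finset.sum_const, Finset.card_univ,
        Nat.cast_smul_eq_nsmul]
    rw [h0] at e
    have h1 : ∑ k ∈ range s, S ^ (k + 1) = -1 := by
      rw [Finset.sum_range_succ', pow_zero] at hsum
      exact eq_neg_of_add_eq_zero_left hsum
    rw [h1, mul_neg, mul_one, eq_comm, neg_add_eq_zero] at e
    exact e
  have h2 : π g * N = N := by
    simp only [N, Finset.mul_sum, ← map_mul]
    exact Equiv.sum_comp (Equiv.mulLeft g) (fun h => π h)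
  rw [hN, mul_smul_comm, mul_one] at h2
  exact smul_right_injective _ (by rwa [← Nat.card_eq_fintype_card]) h2

/-- An element of a `p`-power cyclic group generates the last nontrivial power. -/
theorem pow_pred_mem {M : Type*} [Group M] {p n k : ℕ} (hp : p.Prime) {σ : M} (hσ : σ ^ p ^ n = 1)
    (H : Subgroup M) (hk : σ ^ k ∈ H) (hk0 : 0 < k) (hkr : k < p ^ n) : σ ^ p ^ (n - 1) ∈ H := by
  obtain ⟨i, hi, hgcd⟩ := (Nat.dvd_prime_pow hp).1 (Nat.gcd_dvd_right k (p ^ n))
  have hlt : i ≤ n - 1 := by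
    rcases eq_or_lt_of_le hi with rfl | h
    · have := Nat.le_of_dvd hk0 (hgcd ▸ Nat.gcd_dvd_left k (p ^ i))
      omega
    · omega
  have h1 : σ ^ p ^ i ∈ H := by
    have e : ((p ^ i : ℕ) : ℤ) = (k : ℤ) * Nat.gcdA k (p ^ n) + ((p ^ n : ℕ) : ℤ) * Nat.gcdB k (p ^ n) := by
      rw [← hgcd]; exact Nat.gcd_eq_gcd_ab k (p ^ n)
    rw [← zpow_natCast, e, zpow_add, zpow_mul, zpow_mul, zpow_natCast, zpow_natCast, hσ, one_zpow, mul_one]
    exact H.zpow_mem hk _
  rw [← Nat.sub_add_cancel hlt, add_comm, pow_add, pow_mul]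
  exact H.pow_mem h1 _

theorem pow_natCast_eq_one_coprime {G : Type*} [Group G] {q : ℕ} (hG : IsPGroup q G) [Fact q.Prime] {p : ℕ}
    (hp : p.Prime) (hpq : p ≠ q) {z : G} (hz : z ^ p = 1) : z = 1 := by
  obtain ⟨m, hm⟩ := hG z
  have h : orderOf z ∣ Nat.gcd p (q ^ m) :=
    Nat.dvd_gcd (orderOf_dvd_of_pow_eq_one hz) (orderOf_dvd_of_pow_eq_one hm)
  rw [Nat.Coprime.gcd_eq_one (((Nat.coprime_primes hp Fact.out).2 hpq).pow_right m), Nat.dvd_one,
    orderOf_eq_one_iff] at h
  exact h

omit [Fact p.Prime] in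
/-- The structure of a minimal `q`-group on which `τ` acts nontrivially, non-abelian case. -/
theorem center_eq_of_minimal {Q : Type*} [Group Q] [Finite Q] {q : ℕ} [Fact q.Prime] (hQ : IsPGroup q Q)
    (hp : p.Prime) (hpq : p ≠ q) (τ : MulAut Q) (hτ : τ ^ p = 1)
    (hgen : Subgroup.closure (Set.range fun g : Q => g⁻¹ * τ g) = ⊤)
    (hZfix : ∀ z ∈ Subgroup.center Q, τ z = z) (hΦfix : ∀ z ∈ frattini Q, τ z = z) :
    (∀ c : Q, τ c = c → c ∈ Subgroup.center Q) ∧ Cfsg.IsSpecial q Q := by
  have hhom : ∀ {A : Type _} [Group A] (f : Q →* A), (∀ g, f (τ g) = f g) → ∀ g, f g = 1 := by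
    intro A _ f hf g
    have h : (⊤ : Subgroup Q) ≤ f.ker := hgen ▸ (Subgroup.closure_le _).2 (by
      rintro _ ⟨x, rfl⟩
      rw [SetLike.mem_coe, MonoidHom.mem_ker, map_mul, map_inv, hf, inv_mul_cancel])
    exact h (Subgroup.mem_top g)
  have hcΦ : commutator Q ≤ frattini Q := Cfsg.Agent.PGroup.commutator_le_frattini hQ
  have hC : ∀ c : Q, τ c = c → c ∈ Subgroup.center Q := by
    intro c hc
    have h : (⊤ : Subgroup Q) ≤ Subgroup.centralizer ({c} : Set Q) := hgen ▸ (Subgroup.closure_le _).2 (by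
      rintro _ ⟨g, rfl⟩
      rw [SetLike.mem_coe, Subgroup.mem_centralizer_singleton_iff]
      show g⁻¹ * τ g * c = c * (g⁻¹ * τ g)
      symm
      have h1 : ⁅g, c⁆ ∈ frattini Q := hcΦ (Subgroup.commutator_mem_commutator (Subgroup.mem_top g) (Subgroup.mem_top c))
      have h2 := hΦfix _ h1
      rw [map_commutatorElement, hc, commutatorElement_def, commutatorElement_def, mul_left_inj] at h2
      calc c * (g⁻¹ * τ g) = g⁻¹ * (g * c * g⁻¹) * τ g := by group
        _ = g⁻¹ * (τ g * c * (τ g)⁻¹) * τ g := by rw [h2]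
        _ = g⁻¹ * τ g * c := by group)
    exact Subgroup.mem_center_iff.2 fun g => Subgroup.mem_centralizer_singleton_iff.1 (h (Subgroup.mem_top g))
  have hΦZ : frattini Q ≤ Subgroup.center Q := fun z hz => hC z (hΦfix z hz)
  have hcZ : commutator Q ≤ Subgroup.center Q := hcΦ.trans hΦZ
  -- the centre lies in the commutator subgroup
  have hZc : Subgroup.center Q ≤ commutator Q := by
    intro z hz
    let τ' : Abelianization Q →* Abelianization Q := Abelianization.map τ.toMonoidHom
    let f : Q →* Abelianization Q := ∏ k ∈ range p, Abelianization.of.comp ((τ ^ k : MulAut Q).toMonoidHom)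
    have hf : ∀ g, f g = ∏ k ∈ range p, Abelianization.of ((τ ^ k : MulAut Q) g) := fun g => by
      simp [f, MonoidHom.finsetProd_apply]
    have hfτ : ∀ g, f (τ g) = f g := by
      intro g
      rw [hf, hf]
      have h1 := Finset.prod_range_succ' (fun k => Abelianization.of ((τ ^ k : MulAut Q) g)) p
      rw [Finset.prod_range_succ, hτ] at h1
      simp only [pow_zero] at h1
      rw [mul_right_cancel h1]
      exact Finset.prod_congr rfl fun k _ => by rw [pow_succ, MulAut.mul_apply]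
    have h1 := hhom f hfτ z
    have hkz : ∀ k : ℕ, (τ ^ k : MulAut Q) z = z := fun k => by
      induction k with
      | zero => rfl
      | succ k ih => rw [pow_succ, MulAut.mul_apply, hZfix z hz, ih]
    rw [hf, Finset.prod_congr rfl (g := fun _ => Abelianization.of z) fun k _ => by rw [hkz k],
      Finset.prod_const, Finset.card_range, ← map_pow] at h1
    have hq : IsPGroup q (Abelianization Q) := hQ.to_quotient _
    have h2 := pow_natCast_eq_one_coprime hq hp hpq (z := Abelianization.of z) (by rw [← map_pow]; exact h1)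
    rwa [← MonoidHom.mem_ker, Abelianization.ker_of] at h2
  exact ⟨hC, hQ, le_antisymm hΦZ (hZc.trans hcΦ), le_antisymm hcZ hZc⟩

variable [IsAlgClosed K]

/-- The common eigenvector: some character of a central finite subgroup occurs where `D` is non-zero. -/
theorem exists_character {Z : Type*} [CommGroup Z] [Finite Z] (hZK : (Nat.card Z : K) ≠ 0)
    {W : Type*} [AddCommGroup W] [Module K W] [FiniteDimensional K W] (ρ : Z →* Module.End K W)
    (D : Module.End K W) (hD : D ≠ 0) (hDρ : ∀ z, D * ρ z = ρ z * D) :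
    ∃ μ : Z →* K, ∃ v : W, (∀ z, ρ z v = μ z • v) ∧ D v ≠ 0 := by
  classical
  have := Fintype.ofFinite Z
  let P : Submodule K W → Prop := fun U => U ≠ ⊥ ∧ U ≤ LinearMap.range D ∧ ∀ z, ∀ u ∈ U, ρ z u ∈ U
  have hP : P (LinearMap.range D) := ⟨fun e => hD (LinearMap.range_eq_bot.1 e), le_rfl, by
    rintro z _ ⟨w, rfl⟩
    exact ⟨ρ z w, LinearMap.congr_fun (hDρ z) w⟩⟩
  have hex : ∃ d, ∃ U, P U ∧ Module.finrank K U = d := ⟨_, _, hP, rfl⟩
  obtain ⟨U, ⟨hU, hUD, hUρ⟩, hUd⟩ := Nat.find_spec hex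
  have hscal : ∀ z, ∃ a : K, ∀ u ∈ U, ρ z u = a • u := by
    intro z
    haveI : Nontrivial U := Submodule.nontrivial_iff_ne_bot.2 hU
    obtain ⟨a, ha⟩ := Module.End.exists_eigenvalue ((ρ z).restrict (hUρ z))
    obtain ⟨u, hu⟩ := ha.exists_hasEigenvector
    refine ⟨a, ?_⟩
    set U' := U ⊓ Module.End.eigenspace (ρ z) a with hU'
    have hue : ((u : U) : W) ∈ U' := Submodule.mem_inf.2 ⟨u.2, Module.End.mem_eigenspace_iff.2
      (congrArg Subtype.val hu.apply_eq_smul)⟩
    have hU'P : P U' := by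
      refine ⟨fun e => hu.2 (Subtype.ext ((Submodule.eq_bot_iff _).1 e _ hue)), inf_le_left.trans hUD,
        fun y v hv => Submodule.mem_inf.2 ⟨hUρ y v (Submodule.mem_inf.1 hv).1, ?_⟩⟩
      rw [Module.End.mem_eigenspace_iff, ← Module.End.mul_apply, ← map_mul, mul_comm, map_mul,
        Module.End.mul_apply, Module.End.mem_eigenspace_iff.1 (Submodule.mem_inf.1 hv).2, map_smul]
    have h1 : U' = U := Submodule.eq_of_le_of_finrank_le inf_le_left (by
      rw [hUd]; exact Nat.find_min' hex ⟨U', hU'P, rfl⟩)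
    intro v hv
    exact Module.End.mem_eigenspace_iff.1 (Submodule.mem_inf.1 (h1.ge hv)).2
  choose a ha using hscal
  obtain ⟨u, huU, hu0⟩ := (Submodule.ne_bot_iff U).1 hU
  let μ : Z →* K :=
    { toFun := a
      map_one' := smul_left_injective K hu0 (by
        show a 1 • u = (1 : K) • u
        rw [← ha 1 u huU, map_one, one_smul]; rfl)
      map_mul' := fun x y => smul_left_injective K hu0 (by
        show a (x * y) • u = (a x * a y) • u
        rw [← ha (x * y) u huU, map_mul, Module.End.mul_apply, ha y u huU, map_smul, ha x u huU, smul_smul,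
          mul_comm]) }
  obtain ⟨w, hw⟩ := hUD huU
  let E : Module.End K W := (Nat.card Z : K)⁻¹ • ∑ z : Z, μ z⁻¹ • ρ z
  have hEρ : ∀ y, ∀ x : W, ρ y (E x) = μ y • E x := by
    intro y x
    simp only [E, LinearMap.smul_apply, LinearMap.sum_apply, map_smul, map_sum, Finset.smul_sum, smul_smul]
    conv_rhs => rw [← Equiv.sum_comp (Equiv.mulLeft y)]
    refine Finset.sum_congr rfl fun z _ => ?_
    rw [Equiv.coe_mulLeft, ← Module.End.mul_apply, ← map_mul, mul_left_comm, ← map_mul μ, mul_inv_rev,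
      mul_comm z⁻¹, ← mul_assoc y, mul_inv_cancel, one_mul]
  refine ⟨μ, E w, fun z => hEρ z w, ?_⟩
  have hDE : D (E w) = E (D w) := by
    simp only [E, LinearMap.smul_apply, LinearMap.sum_apply, map_smul, map_sum]
    congr 1
    refine Finset.sum_congr rfl fun z _ => ?_
    rw [← Module.End.mul_apply, hDρ, Module.End.mul_apply]
  have hEu : E u = u := by
    have h1 : ∀ z : Z, (μ z⁻¹ • ρ z) u = u := fun z => by
      show μ z⁻¹ • ρ z u = u
      rw [ha z u huU, smul_smul, show a z = μ z from rfl, ← map_mul, inv_mul_cancel, map_one, one_smul]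
    show ((Nat.card Z : K)⁻¹ • ∑ z : Z, μ z⁻¹ • ρ z) u = u
    rw [LinearMap.smul_apply, LinearMap.sum_apply]
    rw [Finset.sum_congr rfl fun z _ => h1 z, Finset.sum_const, Finset.card_univ, ← Nat.cast_smul_eq_nsmul K,
      ← Nat.card_eq_fintype_card, smul_smul, inv_mul_cancel₀ hZK, one_smul]
  rw [hDE, hw, hEu]
  exact hu0

set_option maxHeartbeats 400000 in
/-- The core of Hall and Higman's Theorem B. -/
theorem theorem_b_core (hp2 : p ≠ 2) {q : ℕ} [Fact q.Prime] (hqp : q ≠ p) (n : ℕ) :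
    ∀ {Q : Type u} [Group Q] [Finite Q] {W : Type v} [AddCommGroup W] [Module K W] [FiniteDimensional K W],
    IsPGroup q Q → ∀ (π : Q →* Module.End K W) (σ : MulAut Q), 1 ≤ n → σ ^ p ^ n = 1 →
    ∀ S : Module.End K W, S ^ p ^ n = 1 → (∀ g, S * π g = π (σ g) * S) →
    (∃ g, π ((σ ^ p ^ (n - 1)) g) ≠ π g) → (S - 1) ^ (p ^ n - 1) = 0 →
    q = 2 ∧ (∃ k : ℕ, p = 2 ^ k + 1) ∧ ∃ a b : Q, a * b ≠ b * a := by
  induction n using Nat.strong_induction_on with
  | _ n ihn =>
  intro Q _ _ W _ _ _ hQ π σ hn hσ S hS hSπ hne hT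
  induction hN : Nat.card Q using Nat.strong_induction_on generalizing Q W with
  | _ N ihN =>
  subst hN
  classical
  have hp : p.Prime := Fact.out
  have hq : q.Prime := Fact.out
  have hr1 : 1 < p ^ n := Nat.one_lt_pow (by omega) hp.one_lt
  set τ := σ ^ p ^ (n - 1) with hτdef
  have hτp : τ ^ p = 1 := by rw [hτdef, ← pow_mul, ← pow_succ, Nat.sub_add_cancel hn, hσ]
  have hcardK : ∀ (H : Type u) [Group H] [Finite H], IsPGroup q H → (Nat.card H : K) ≠ 0 := by
    intro H _ _ hH e
    obtain ⟨m, hm⟩ := hH.exists_card_eq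
    rw [hm, CharP.cast_eq_zero_iff K p] at e
    exact hqp ((Nat.prime_dvd_prime_iff_eq hp hq).1 (hp.dvd_of_dvd_pow e)).symm
  -- unfaithful actions
  have hquot : ∀ {W' : Type v} [AddCommGroup W'] [Module K W'] [FiniteDimensional K W']
      (π' : Q →* Module.End K W') (S' : Module.End K W'), π'.ker ≠ ⊥ → S' ^ p ^ n = 1 →
      (∀ g, S' * π' g = π' (σ g) * S') → (∃ g, π' (τ g) ≠ π' g) → (S' - 1) ^ (p ^ n - 1) = 0 →
      q = 2 ∧ (∃ k : ℕ, p = 2 ^ k + 1) ∧ ∃ a b : Q, a * b ≠ b * a := by
    intro W' _ _ _ π' S' hker hS' hSπ' hne' hT'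
    have hu : IsUnit S' := IsUnit.of_pow_eq_one hS' (by omega)
    have hmap : π'.ker.map σ.toMonoidHom = π'.ker := by
      refine Subgroup.eq_of_le_of_card_ge ?_ (Subgroup.card_map_of_injective σ.injective).ge
      rintro _ ⟨g, hg, rfl⟩
      have h1 := hSπ' g
      rw [show π' g = 1 from hg, mul_one] at h1
      exact hu.mul_right_cancel ((h1.symm).trans (one_mul S').symm)
    let σ' : MulAut (Q ⧸ π'.ker) := QuotientGroup.congr π'.ker π'.ker σ hmap
    have hpow : ∀ (k : ℕ) (g : Q), (σ' ^ k) (g : Q ⧸ π'.ker) = (((σ ^ k) g : Q) : Q ⧸ π'.ker) := by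
      intro k
      induction k with
      | zero => intro g; rfl
      | succ k ih =>
        intro g
        rw [pow_succ, MulAut.mul_apply, show σ' (g : Q ⧸ π'.ker) = ((σ g : Q) : Q ⧸ π'.ker) from rfl, ih,
          pow_succ σ, MulAut.mul_apply]
    have hlt : Nat.card (Q ⧸ π'.ker) < Nat.card Q := by
      rw [Subgroup.card_eq_card_quotient_mul_card_subgroup π'.ker]
      exact lt_mul_of_one_lt_right Nat.card_pos (Subgroup.one_lt_card_iff_ne_bot _ |>.2 hker)
    obtain ⟨h2, hF, a, b, hab⟩ := ihN _ hlt (hQ.to_quotient π'.ker) (QuotientGroup.lift π'.ker π' le_rfl) σ'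
      (MulEquiv.ext fun x => by
        induction x using QuotientGroup.induction_on with | H g => rw [hpow, hσ]; rfl)
      S' hS' (fun x => by induction x using QuotientGroup.induction_on with | H g => exact hSπ' g)
      (by obtain ⟨g, hg⟩ := hne'; exact ⟨g, by rw [hpow]; exact hg⟩) hT' rfl
    obtain ⟨a, rfl⟩ := QuotientGroup.mk_surjective a
    obtain ⟨b, rfl⟩ := QuotientGroup.mk_surjective b
    exact ⟨h2, hF, a, b, fun e => hab (by rw [← QuotientGroup.mk_mul, e, QuotientGroup.mk_mul])⟩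
  by_cases hker : π.ker ≠ ⊥
  · exact hquot π S hker hS hSπ hne hT
  push Not at hker
  have hπinj : Function.Injective π := (MonoidHom.ker_eq_bot_iff π).1 hker
  have hτ1 : ∃ g, τ g ≠ g := by obtain ⟨g, hg⟩ := hne; exact ⟨g, fun e => hg (by rw [e])⟩
  -- proper invariant subgroups
  by_cases hR : ∃ R : Subgroup Q, R ≠ ⊤ ∧ R.map σ.toMonoidHom = R ∧ ∃ g ∈ R, τ g ≠ g
  · obtain ⟨R, hRt, hRσ, g, hgR, hg⟩ := hR
    let σ' : MulAut R := (σ.subgroupMap R).trans (MulEquiv.subgroupCongr hRσ)
    have hpow : ∀ (k : ℕ) (x : R), ((σ' ^ k) x : Q) = (σ ^ k) x := by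
      intro k
      induction k with
      | zero => intro x; rfl
      | succ k ih =>
        intro x
        rw [pow_succ, MulAut.mul_apply, ih, pow_succ σ, MulAut.mul_apply]
        rfl
    have hlt : Nat.card R < Nat.card Q := lt_of_le_of_ne R.card_le_card_group fun e =>
      hRt ((Subgroup.card_eq_iff_eq_top R).1 e)
    obtain ⟨h2, hF, a, b, hab⟩ := ihN _ hlt (hQ.to_subgroup R) (π.comp R.subtype) σ'
      (MulEquiv.ext fun x => Subtype.ext (by rw [hpow, hσ]; rfl)) S hS (fun x => hSπ x)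
      ⟨⟨g, hgR⟩, fun e => hg (by
        have e' : π ((σ' ^ p ^ (n - 1)) ⟨g, hgR⟩ : R) = π g := e
        rw [hpow] at e'
        exact hπinj e')⟩ hT rfl
    exact ⟨h2, hF, a, b, fun e => hab (Subtype.ext e)⟩
  push Not at hR
  have hchar : ∀ (R : Subgroup Q) [R.Characteristic], R ≠ ⊤ → ∀ g ∈ R, τ g = g := fun R _ h g hg =>
    hR R h (Subgroup.characteristic_iff_map_eq.1 inferInstance σ) g hg
  -- `Q = [Q, τ]`
  set D := Subgroup.closure (Set.range fun g : Q => g⁻¹ * τ g) with hD
  have hgen : D = ⊤ := by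
    by_contra hDt
    have hDσ : D.map σ.toMonoidHom = D := by
      refine Subgroup.eq_of_le_of_card_ge ?_ (Subgroup.card_map_of_injective σ.injective).ge
      rw [hD, MonoidHom.map_closure]
      refine (Subgroup.closure_le _).2 ?_
      rintro _ ⟨_, ⟨g, rfl⟩, rfl⟩
      refine Subgroup.subset_closure ⟨σ g, ?_⟩
      show (σ g)⁻¹ * τ (σ g) = σ (g⁻¹ * τ g)
      rw [map_mul, map_inv, hτdef, ← MulAut.mul_apply, ← MulAut.mul_apply, ← pow_succ, ← pow_succ']
    obtain ⟨g, hg⟩ := hτ1
    set z := g⁻¹ * τ g with hz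
    have hzf : τ z = z := hR D hDt hDσ z (Subgroup.subset_closure ⟨g, rfl⟩)
    have hk : ∀ k : ℕ, (τ ^ k) g = g * z ^ k := by
      intro k
      induction k with
      | zero => simp
      | succ k ih =>
        rw [pow_succ', MulAut.mul_apply, ih, map_mul, map_pow, hzf, show τ g = g * z by rw [hz]; group,
          pow_succ', mul_assoc]
    have h1 := hk p
    rw [hτp, MulAut.one_apply, left_eq_mul] at h1
    exact hg (inv_mul_eq_one.1 (pow_natCast_eq_one_coprime hQ hp hqp.symm h1)).symm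
  -- semiregularity of all powers
  have hsemi : ∀ (Z : Subgroup Q) [Z.Characteristic], (∀ z ∈ Z, τ z = z) →
      (∀ g, τ g = g → g ∈ Z) → ∀ k, 0 < k → k < p ^ n → ∀ g, (σ ^ k) g * g⁻¹ ∈ Z → g ∈ Z := by
    intro Z _ hZf hZc k hk0 hkr g hg
    let H : Subgroup (MulAut Q) :=
      { carrier := {φ | φ g * g⁻¹ ∈ Z}
        one_mem' := by simp
        mul_mem' := fun {a b} ha hb => by
          have h1 : a (b g * g⁻¹) ∈ Z :=
            Subgroup.characteristic_iff_map_le.1 inferInstance a ⟨_, hb, rfl⟩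
          have := mul_mem h1 ha
          show (a * b) g * g⁻¹ ∈ Z
          rwa [map_mul, map_inv, ← mul_assoc, inv_mul_cancel_right, ← MulAut.mul_apply] at this
        inv_mem' := fun {a} ha => by
          have h1 : a⁻¹ (a g * g⁻¹) ∈ Z :=
            Subgroup.characteristic_iff_map_le.1 inferInstance a⁻¹ ⟨_, ha, rfl⟩
          rw [map_mul, map_inv, MulAut.inv_apply_self] at h1
          have := inv_mem h1
          rwa [mul_inv_rev, inv_inv] at this }
    have hτH : τ ∈ H := pow_pred_mem hp hσ H hg hk0 hkr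
    set z := τ g * g⁻¹ with hz
    have hzf : τ z = z := hZf z hτH
    have hk' : ∀ k : ℕ, (τ ^ k) g = z ^ k * g := by
      intro k
      induction k with
      | zero => simp
      | succ k ih =>
        rw [pow_succ', MulAut.mul_apply, ih, map_mul, map_pow, hzf, pow_succ, mul_assoc]
        congr 1
        exact (inv_mul_cancel_right (τ g) g).symm
    have h1 := hk' p
    rw [hτp, MulAut.one_apply, right_eq_mul] at h1
    exact hZc g (mul_inv_eq_one.1 (pow_natCast_eq_one_coprime hQ hp hqp.symm h1))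
  have hT' : ∑ k ∈ range (p ^ n), S ^ k = 0 := by rw [← sub_one_pow_eq_sum, hT]
  by_cases habel : ∀ a b : Q, a * b = b * a
  · exfalso
    have hfix1 : ∀ c, τ c = c → c ∈ (⊥ : Subgroup Q) := by
      intro c hc
      letI : CommGroup Q := { (inferInstance : Group Q) with mul_comm := habel }
      let f : Q →* Q := ∏ k ∈ range p, ((τ ^ k : MulAut Q).toMonoidHom)
      have hf : ∀ g, f g = ∏ k ∈ range p, (τ ^ k : MulAut Q) g := fun g => by
        simp [f, MonoidHom.finsetProd_apply]
      have hfτ : ∀ g, f (τ g) = f g := by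
        intro g
        rw [hf, hf]
        have h1 := Finset.prod_range_succ' (fun k => (τ ^ k : MulAut Q) g) p
        rw [Finset.prod_range_succ, hτp] at h1
        simp only [pow_zero] at h1
        rw [mul_right_cancel h1]
        exact Finset.prod_congr rfl fun k _ => by rw [pow_succ, MulAut.mul_apply]
      have hker' : D ≤ f.ker := (Subgroup.closure_le _).2 (by
        rintro _ ⟨x, rfl⟩
        rw [SetLike.mem_coe, MonoidHom.mem_ker, map_mul, map_inv, hfτ, inv_mul_cancel])
      have h1 : f c = 1 := hker' (hgen.ge (Subgroup.mem_top c))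
      have hk : ∀ k : ℕ, (τ ^ k : MulAut Q) c = c := by
        intro k
        induction k with
        | zero => rfl
        | succ k ih => rw [pow_succ, MulAut.mul_apply, hc, ih]
      rw [hf, Finset.prod_congr rfl fun k _ => hk k, Finset.prod_const, Finset.card_range] at h1
      exact Subgroup.mem_bot.2 (pow_natCast_eq_one_coprime hQ hp hqp.symm h1)
    obtain ⟨g, hg⟩ := hne
    have hfpf : ∀ k, 0 < k → k < p ^ n → ∀ x : Q, (σ ^ k) x = x → x = 1 := fun k hk0 hkr x hx =>
      Subgroup.mem_bot.1 (hsemi ⊥ (fun z hz => by rw [Subgroup.mem_bot.1 hz, map_one]) hfix1 k hk0 hkr x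
        (by rw [hx, mul_inv_cancel]; exact one_mem _))
    have := rep_eq_one_of_sum_eq_zero π σ S (by omega) hSπ hT' hfpf (hcardK Q hQ)
    exact hg (by rw [this, this])
  push Not at habel
  obtain ⟨a₀, b₀, hab₀⟩ := habel
  have hncZ : Subgroup.center Q ≠ ⊤ := fun e =>
    hab₀ (Subgroup.mem_center_iff.1 (e.ge (Subgroup.mem_top b₀)) a₀)
  have hZfix : ∀ z ∈ Subgroup.center Q, τ z = z := hchar _ hncZ
  haveI : (frattini Q).Characteristic := frattini_characteristic
  have hΦt : frattini Q ≠ ⊤ := fun e => by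
    haveI : IsCoatomic (Subgroup Q) := inferInstance
    have := frattini_nongenerating (K := (⊥ : Subgroup Q)) (by rw [e]; exact sup_top_eq _)
    obtain ⟨g, hg⟩ := hτ1
    exact hg (by rw [Subgroup.mem_bot.1 (this.ge (Subgroup.mem_top g)), map_one])
  obtain ⟨hCfix, hspec⟩ := center_eq_of_minimal hQ hp hqp.symm τ hτp hgen hZfix (hchar _ hΦt)
  -- a character of the centre where `τ` is visible
  obtain ⟨g₀, hg₀⟩ := hne
  letI : CommGroup (Subgroup.center Q) :=
    { (inferInstance : Group (Subgroup.center Q)) with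
      mul_comm := fun a b => Subtype.ext (Subgroup.mem_center_iff.1 b.2 a) }
  have := Fintype.ofFinite (Subgroup.center Q)
  obtain ⟨μ, v₀, hv₀, hDv₀⟩ := exists_character (hcardK _ (hQ.to_subgroup (Subgroup.center Q)))
    (π.comp (Subgroup.center Q).subtype) (π (τ g₀) - π g₀) (sub_ne_zero.2 hg₀) (fun z => by
      rw [sub_mul, mul_sub]
      show π _ * π (z : Q) - π _ * π (z : Q) = π (z : Q) * π _ - π (z : Q) * π _
      rw [← map_mul, ← map_mul, ← map_mul, ← map_mul, Subgroup.mem_center_iff.1 z.2,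
        Subgroup.mem_center_iff.1 z.2])
  let Wμ : Submodule K W := ⨅ z : Subgroup.center Q, Module.End.eigenspace (π (z : Q)) (μ z)
  have hWμ : ∀ v, v ∈ Wμ ↔ ∀ z : Subgroup.center Q, π (z : Q) v = μ z • v := fun v => by
    simp only [Wμ, Submodule.mem_iInf, Module.End.mem_eigenspace_iff]
  have hπW : ∀ g, ∀ v ∈ Wμ, π g v ∈ Wμ := fun g v hv => (hWμ _).2 fun z => by
    rw [← Module.End.mul_apply, ← map_mul, ← Subgroup.mem_center_iff.1 z.2 g, map_mul, Module.End.mul_apply,
      (hWμ v).1 hv z, map_smul]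
  have hv₀W : v₀ ∈ Wμ := (hWμ _).2 hv₀
  let π' : Q →* Module.End K Wμ :=
    { toFun := fun g => (π g).restrict (hπW g)
      map_one' := LinearMap.ext fun v => Subtype.ext (by simp)
      map_mul' := fun a b => LinearMap.ext fun v => Subtype.ext (by simp) }
  have hne' : π' (τ g₀) ≠ π' g₀ := fun e => hDv₀ (by
    have h1 : π (τ g₀) v₀ = π g₀ v₀ := congrArg Subtype.val (LinearMap.congr_fun e ⟨v₀, hv₀W⟩)
    rw [LinearMap.sub_apply, h1, sub_self])
  -- the period of the character
  have hσZ : ∀ (k : ℕ) (z : Subgroup.center Q), (σ ^ k) (z : Q) ∈ Subgroup.center Q := fun k z =>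
    Subgroup.characteristic_iff_map_le.1 inferInstance (σ ^ k) ⟨_, z.2, rfl⟩
  let Fix : ℕ → Prop := fun P => ∀ z : Subgroup.center Q, μ ⟨(σ ^ P) z, hσZ P z⟩ = μ z
  have hτFix : Fix (p ^ (n - 1)) := fun z => congrArg μ (Subtype.ext (hZfix z z.2))
  have hexj : ∃ i, Fix (p ^ i) := ⟨_, hτFix⟩
  set j := Nat.find hexj with hjdef
  have hjfix : Fix (p ^ j) := Nat.find_spec hexj
  have hjn : j ≤ n - 1 := Nat.find_min' hexj hτFix
  have hP0 : 0 < p ^ j := pow_pos hp.pos j
  have hrP : p ^ n = p ^ j * p ^ (n - j) := by rw [← pow_add, Nat.add_sub_cancel' (by omega)]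
  have hSk := map_pow_of_map π σ S hSπ
  -- distinct translates of the eigenspace are independent
  have hindep : ∀ u ∈ Wμ, ∑ k ∈ range (p ^ j), (S ^ k) u = 0 → u = 0 := by
    intro u hu hsum
    let E : Module.End K W := ∑ z : Subgroup.center Q, μ z⁻¹ • π (z : Q)
    have hE : ∀ k < p ^ j, E ((S ^ k) u) = if k = 0 then (Fintype.card (Subgroup.center Q) : K) • u else 0 := by
      intro k hk
      -- the character of the translate
      have hbij : Function.Bijective fun z : Subgroup.center Q =>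
          (⟨(σ ^ k) z, hσZ k z⟩ : Subgroup.center Q) :=
        Finite.injective_iff_bijective.1 fun a b e => Subtype.ext ((σ ^ k).injective (congrArg Subtype.val e))
      simp only [E, LinearMap.sum_apply, LinearMap.smul_apply]
      rw [← Equiv.sum_comp (Equiv.ofBijective _ hbij)]
      have h1 : ∀ z : Subgroup.center Q, μ (Equiv.ofBijective _ hbij z)⁻¹ •
          π ((Equiv.ofBijective _ hbij z : Subgroup.center Q) : Q) ((S ^ k) u) =
          ((μ ⟨(σ ^ k) z, hσZ k z⟩⁻¹) * μ z) • (S ^ k) u := by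
        intro z
        rw [← smul_smul]
        congr 1
        show π ((σ ^ k) (z : Q)) ((S ^ k) u) = μ z • (S ^ k) u
        rw [← Module.End.mul_apply, ← hSk, Module.End.mul_apply, (hWμ u).1 hu z, map_smul]
      rw [Finset.sum_congr rfl fun z _ => h1 z, ← Finset.sum_smul]
      let φ : Subgroup.center Q →* K :=
        { toFun := fun z => μ ⟨(σ ^ k) z, hσZ k z⟩⁻¹ * μ z
          map_one' := by simp; exact map_one μ
          map_mul' := fun a b => by
            rw [show (⟨(σ ^ k) ((a * b : Subgroup.center Q) : Q), hσZ k (a * b)⟩ : Subgroup.center Q) =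
              ⟨(σ ^ k) a, hσZ k a⟩ * ⟨(σ ^ k) b, hσZ k b⟩ from Subtype.ext (map_mul (σ ^ k) (a : Q) b),
              mul_inv, map_mul, map_mul]
            ring }
      have hs : (∑ z : Subgroup.center Q, μ ⟨(σ ^ k) z, hσZ k z⟩⁻¹ * μ z) =
          if φ = 1 then (Fintype.card (Subgroup.center Q) : K) else 0 := by
        show ∑ z : Subgroup.center Q, φ z = _
        convert sum_hom_units φ using 1; split_ifs <;> simp
      rw [hs]
      by_cases hk0 : k = 0
      · subst hk0
        rw [if_pos rfl, if_pos (MonoidHom.ext fun z => by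
          show μ ⟨(σ ^ 0) z, _⟩⁻¹ * μ z = 1
          rw [show (⟨(σ ^ 0) z, hσZ 0 z⟩ : Subgroup.center Q) = z from Subtype.ext rfl, ← map_mul,
            inv_mul_cancel, map_one])]
        rfl
      · rw [if_neg hk0, if_neg, zero_smul]
        intro hφ
        have hkfix : Fix k := fun z => by
          have h2 : μ ⟨(σ ^ k) z, hσZ k z⟩⁻¹ * μ z = 1 := DFunLike.congr_fun hφ z
          rw [← mul_one (μ ⟨(σ ^ k) z, hσZ k z⟩), ← h2, ← mul_assoc, ← map_mul, mul_inv_cancel, map_one, one_mul]
        -- the stabiliser of the character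
        let H : Subgroup (MulAut Q) :=
          { carrier := {ψ | ∀ z w : Subgroup.center Q, ψ (z : Q) = w → μ w = μ z}
            one_mem' := fun z w e => congrArg μ (Subtype.ext e.symm)
            mul_mem' := fun {a b} ha hb z w e => by
              have hm : b (z : Q) ∈ Subgroup.center Q :=
                Subgroup.characteristic_iff_map_le.1 inferInstance b ⟨_, z.2, rfl⟩
              exact (ha ⟨b z, hm⟩ w e).trans (hb z ⟨b z, hm⟩ rfl)
            inv_mem' := fun {a} ha z w e => (ha w z (by rw [← e, MulAut.apply_inv_self])).symm }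
        have hmemH : ∀ m, Fix m → σ ^ m ∈ H := fun m hm z w e => by
          rw [← hm z]; exact congrArg μ (Subtype.ext e.symm)
        obtain ⟨i, hi, hgcd⟩ := (Nat.dvd_prime_pow hp).1 (Nat.gcd_dvd_right k (p ^ j))
        have h3 : σ ^ p ^ i ∈ H := by
          have e : ((p ^ i : ℕ) : ℤ) = (k : ℤ) * Nat.gcdA k (p ^ j) + ((p ^ j : ℕ) : ℤ) * Nat.gcdB k (p ^ j) := by
            rw [← hgcd]; exact Nat.gcd_eq_gcd_ab k (p ^ j)
          rw [← zpow_natCast, e, zpow_add, zpow_mul, zpow_mul, zpow_natCast, zpow_natCast]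
          exact mul_mem (H.zpow_mem (hmemH k hkfix) _) (H.zpow_mem (hmemH _ hjfix) _)
        have hij : i < j := by
          rcases eq_or_lt_of_le hi with rfl | h
          · have := Nat.le_of_dvd (Nat.pos_of_ne_zero hk0) (hgcd ▸ Nat.gcd_dvd_left k (p ^ j))
            omega
          · exact h
        exact Nat.find_min hexj hij fun z => h3 z ⟨_, hσZ _ z⟩ rfl
    have h := congrArg E hsum
    rw [map_sum, Finset.sum_congr rfl fun k hk => hE k (Finset.mem_range.1 hk), Finset.sum_ite_eq',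
      if_pos (Finset.mem_range.2 hP0), map_zero, smul_eq_zero] at h
    refine h.resolve_left ?_
    rw [← Nat.card_eq_fintype_card]
    exact hcardK _ (hQ.to_subgroup _)
  have hSW : ∀ v ∈ Wμ, (S ^ p ^ j) v ∈ Wμ := fun v hv => (hWμ _).2 fun z => by
    obtain ⟨y, hy⟩ : ∃ y : Subgroup.center Q, (⟨(σ ^ p ^ j) y, hσZ _ y⟩ : Subgroup.center Q) = z :=
      (Finite.injective_iff_surjective.1 fun a b e => Subtype.ext
        ((σ ^ p ^ j).injective (congrArg Subtype.val e))) z
    rw [← hy]
    show π ((σ ^ p ^ j) (y : Q)) ((S ^ p ^ j) v) = _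
    rw [← Module.End.mul_apply, ← hSk, Module.End.mul_apply, (hWμ v).1 hv y, map_smul, hjfix y]
  let S' : Module.End K Wμ := (S ^ p ^ j).restrict hSW
  have hS' : S' ^ p ^ (n - j) = 1 := by
    refine LinearMap.ext fun v => Subtype.ext ?_
    show ((((S ^ p ^ j).restrict hSW) ^ p ^ (n - j)) v : W) = v
    rw [Module.End.pow_restrict]
    show ((S ^ p ^ j) ^ p ^ (n - j)) (v : W) = v
    rw [← pow_mul, ← hrP, hS, Module.End.one_apply]
  have hS'π : ∀ g, S' * π' g = π' ((σ ^ p ^ j) g) * S' := fun g => LinearMap.ext fun v =>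
    Subtype.ext (LinearMap.congr_fun (hSk (p ^ j) g) (v : W))
  have hS'T : (S' - 1) ^ (p ^ (n - j) - 1) = 0 := by
    refine LinearMap.ext fun v => Subtype.ext ?_
    rw [sub_one_pow_eq_sum]
    set u : Wμ := (∑ k ∈ range (p ^ (n - j)), S' ^ k) v with hu
    refine hindep _ u.2 ?_
    have hu' : (u : W) = ((S ^ p ^ j - 1) ^ (p ^ (n - j) - 1)) (v : W) := by
      rw [hu, sub_one_pow_eq_sum]
      simp only [LinearMap.sum_apply, Submodule.coe_sum]
      refine Finset.sum_congr rfl fun k _ => ?_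
      show ((((S ^ p ^ j).restrict hSW) ^ k) v : W) = _
      rw [Module.End.pow_restrict]; rfl
    rw [hu', ← LinearMap.sum_apply, ← sub_one_pow_eq_sum, ← Module.End.mul_apply]
    have e : S ^ p ^ j - 1 = (S - 1) ^ p ^ j := by
      have h := congrArg (Polynomial.aeval S)
        (sub_pow_char_pow (R := Polynomial K) (p := p) (n := j) (x := Polynomial.X) (y := 1))
      simpa using h.symm
    rw [e, ← pow_mul, ← pow_add,
      show p ^ j - 1 + p ^ j * (p ^ (n - j) - 1) = p ^ n - 1 by
        rw [hrP, Nat.mul_sub, mul_one]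
        have := Nat.le_mul_of_pos_right (p ^ j) (pow_pos hp.pos (n - j))
        omega, hT, LinearMap.zero_apply]
  by_cases hj0 : j ≠ 0
  · obtain ⟨h2, hF, -⟩ := ihn (n - j) (by omega) hQ π' (σ ^ p ^ j) (by omega)
      (by rw [← pow_mul, ← hrP, hσ]) S' hS' hS'π
      ⟨g₀, by rw [← pow_mul, ← pow_add, show j + (n - j - 1) = n - 1 by omega]; exact hne'⟩ hS'T
    exact ⟨h2, hF, a₀, b₀, hab₀⟩
  push Not at hj0
  rw [hj0] at hS' hS'π hS'T
  simp only [pow_zero, pow_one, Nat.sub_zero] at hS' hS'π hS'T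
  by_cases hker' : π'.ker ≠ ⊥
  · exact hquot π' S' hker' hS' hS'π ⟨g₀, hne'⟩ hS'T
  push Not at hker'
  have hπ'inj : Function.Injective π' := (MonoidHom.ker_eq_bot_iff π').1 hker'
  have hlam : ∀ z : Subgroup.center Q, π' (z : Q) = μ z • 1 := fun z =>
    LinearMap.ext fun v => Subtype.ext ((hWμ _).1 v.2 z)
  have hlinj : ∀ z, μ z = 1 → z = 1 := fun z hz =>
    Subtype.ext (hπ'inj (by rw [hlam, hz, one_smul, OneMemClass.coe_one, map_one]))
  have hcardZ : Nat.card (Subgroup.center Q) = q := by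
    have hinj : Function.Injective fun z : Subgroup.center Q =>
        (⟨μ z, by
          rw [Polynomial.mem_nthRootsFinset hq.pos, ← map_pow,
            show z ^ q = 1 from Subtype.ext (Cfsg.Agent.PGroup.special_center_pow hspec z.2), map_one]⟩ :
          Polynomial.nthRootsFinset q (1 : K)) := fun a b e => by
      have e' : μ a = μ b := congrArg Subtype.val e
      have := hlinj (a * b⁻¹) (by rw [map_mul, e', ← map_mul, mul_inv_cancel, map_one])
      exact mul_inv_eq_one.1 this
    have hle : Nat.card (Subgroup.center Q) ≤ q := by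
      refine (Nat.card_le_card_of_injective _ hinj).trans ?_
      rw [Nat.card_eq_finsetCard]
      refine (Multiset.toFinset_card_le _).trans ?_
      exact Polynomial.card_nthRoots q (1 : K)
    obtain ⟨m, hm⟩ := (hQ.to_subgroup (Subgroup.center Q)).exists_card_eq
    rcases Nat.eq_zero_or_pos m with rfl | hm0
    · exfalso
      rw [pow_zero] at hm
      have hbot := Subgroup.eq_bot_of_card_eq _ hm
      have h1 : ⁅a₀, b₀⁆ ∈ commutator Q :=
        Subgroup.commutator_mem_commutator (Subgroup.mem_top a₀) (Subgroup.mem_top b₀)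
      rw [hspec.2.2, hbot, Subgroup.mem_bot, commutatorElement_eq_one_iff_mul_comm] at h1
      exact hab₀ h1
    · exact le_antisymm hle (hm ▸ Nat.le_self_pow hm0.ne' q)
  haveI : Nontrivial Wμ := ⟨⟨⟨v₀, hv₀W⟩, 0, fun e => hDv₀ (by
    rw [show v₀ = 0 from congrArg Subtype.val e, map_zero])⟩⟩
  have hσc : ∀ z ∈ Subgroup.center Q, σ z = z := fun z hz => by
    refine hπ'inj ?_
    have h1 := hS'π z
    rw [hlam ⟨z, hz⟩, mul_smul_comm, mul_one, ← one_mul S', ← smul_mul_assoc, ← hlam ⟨z, hz⟩] at h1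
    rw [one_mul] at h1
    exact ((IsUnit.of_pow_eq_one hS' (by omega)).mul_right_cancel h1).symm
  obtain ⟨m, hm, -, hle, hdvd⟩ := pow_add_one_le_of_scalar hr1 ⟨hspec, hcardZ⟩
    (fun e => by rw [CharP.cast_eq_zero_iff K p] at e; exact hqp ((Nat.prime_dvd_prime_iff_eq hp hq).1 e).symm)
    π' μ hlam hlinj σ hσ hσc (hsemi (Subgroup.center Q) hZfix hCfix) S' hS' hS'π
    (by
      refine (sq_finrank_le_of_nilpotent (p ^ n - 1) (S' - 1) hS'T).trans (Nat.mul_le_mul_left _ ?_)
      refine le_of_eq (congrArg (fun U : Submodule K _ => Module.finrank K U) (Submodule.ext fun f => ?_))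
      simp only [mem_commutant, sub_mul, mul_sub, one_mul, mul_one, sub_left_inj])
  have hX : 2 ≤ q ^ m := le_trans hq.two_le (Nat.le_self_pow (by omega) q)
  have hnot : ¬ p ∣ q ^ m + 1 ∨ ¬ p ∣ q ^ m - 1 := by
    by_contra h
    push Not at h
    have h3 := Nat.dvd_sub h.1 h.2
    rw [show q ^ m + 1 - (q ^ m - 1) = 2 by omega] at h3
    exact hp2 ((Nat.prime_dvd_prime_iff_eq hp Nat.prime_two).1 h3)
  rcases hnot with h | h
  · have := Nat.le_of_dvd (by omega) ((((hp.coprime_iff_not_dvd).2 h).pow_left n).dvd_of_dvd_mul_left hdvd)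
    omega
  · have hle2 := Nat.le_of_dvd (by omega) ((((hp.coprime_iff_not_dvd).2 h).pow_left n).dvd_of_dvd_mul_right hdvd)
    have heq : p ^ n = q ^ m + 1 := by omega
    have hq2 : q = 2 := by
      by_contra hne2
      have hodd : Odd (q ^ m) := (hq.odd_of_ne_two hne2).pow
      have heven : Even (p ^ n) := heq ▸ hodd.add_one
      have : Odd (p ^ n) := (hp.odd_of_ne_two hp2).pow
      exact (Nat.not_even_iff_odd.2 this) heven
    subst hq2
    have hd : p - 1 ∣ 2 ^ m := by
      have := Nat.sub_dvd_pow_sub_pow p 1 n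
      rwa [one_pow, heq, Nat.add_sub_cancel] at this
    obtain ⟨k, -, hk⟩ := (Nat.dvd_prime_pow Nat.prime_two).1 hd
    exact ⟨rfl, ⟨k, by have := hp.two_le; omega⟩, a₀, b₀, hab₀⟩

end Cfsg.Agent.HallHigman
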