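import Mathlib
import Cfsg.Prelude.Def_Transfer
import Cfsg.Agent.Lib.HallHigman.Eigen
import Cfsg.Agent.Lib.PGroup.Extraspecial
import Cfsg.Agent.Lib.PGroup.Class2

/-!
Unipotent operators: the dimension of the commutant and the Hall–Higman inequality for an extraspecial group
with a semiregular automorphism induced by a unipotent operator.
-/

set_option autoImplicit false
set_option linter.style.haveILetI false

namespace Cfsg.Agent.HallHigman

open Finset
open scoped commutatorElement

/-- If `N ^ s = 0` then the commutant of `N` has dimension at least `(dim W) ^ 2 / s`. -/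
theorem sq_finrank_le_of_nilpotent {K : Type*} [Field K] : ∀ (s : ℕ) {W : Type*} [AddCommGroup W]
    [Module K W] [FiniteDimensional K W] (N : Module.End K W), N ^ s = 0 →
    Module.finrank K W ^ 2 ≤ s * Module.finrank K (commutant N) := by
  intro s
  induction s with
  | zero =>
    intro W _ _ _ N hN
    rw [pow_zero] at hN
    have : ∀ v : W, v = 0 := fun v => by simpa using LinearMap.congr_fun hN v
    haveI : Subsingleton W := ⟨fun a b => (this a).trans (this b).symm⟩
    simp [Module.finrank_zero_of_subsingleton]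
  | succ s ih =>
    intro W _ _ _ N hN
    set R := LinearMap.range N with hR
    have hNR : ∀ v ∈ R, N v ∈ R := fun v _ => LinearMap.mem_range_self N v
    set M : Module.End K R := N.restrict hNR with hM
    have hMs : M ^ s = 0 := by
      refine LinearMap.ext fun v => Subtype.ext ?_
      obtain ⟨w, hw⟩ := v.2
      rw [hM, Module.End.pow_restrict]
      show (N ^ s) (v : W) = 0
      rw [← hw, ← Module.End.mul_apply, ← pow_succ, hN, LinearMap.zero_apply]
    have hind := ih M hMs
    have hfR : ∀ f ∈ commutant N, ∀ v ∈ R, f v ∈ R := by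
      rintro f hf _ ⟨w, rfl⟩
      exact ⟨f w, LinearMap.congr_fun (mem_commutant.1 hf) w⟩
    let ψ : commutant N →ₗ[K] commutant M :=
      { toFun := fun f => ⟨(f : Module.End K W).restrict (hfR _ f.2), mem_commutant.2 (LinearMap.ext fun v =>
          Subtype.ext (LinearMap.congr_fun (mem_commutant.1 f.2) (v : W)))⟩
        map_add' := fun f g => rfl
        map_smul' := fun c f => rfl }
    obtain ⟨U, hU⟩ := R.exists_isCompl
    obtain ⟨L, hL⟩ := LinearMap.exists_rightInverse_of_surjective N.rangeRestrict N.range_rangeRestrict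
    have hψ : LinearMap.range ψ = ⊤ := by
      refine LinearMap.range_eq_top.2 fun g => ?_
      let b : U →ₗ[K] W := L ∘ₗ (g : Module.End K R) ∘ₗ N.rangeRestrict ∘ₗ U.subtype
      let f : Module.End K W := LinearMap.ofIsCompl hU (R.subtype ∘ₗ (g : Module.End K R)) b
      have hfl : ∀ v : R, f v = ((g : Module.End K R) v : W) := fun v => LinearMap.ofIsCompl_apply_left hU v
      have hf : f ∈ commutant N := mem_commutant.2 (LinearMap.ext fun v => by
        obtain ⟨a, ha, c, hc, rfl⟩ := Submodule.mem_sup.1 (hU.sup_eq_top.ge (Submodule.mem_top (x := v)))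
        simp only [Module.End.mul_apply, map_add]
        congr 1
        · rw [hfl ⟨a, ha⟩, hfl ⟨N a, hNR a ha⟩]
          exact congrArg Subtype.val (LinearMap.congr_fun (mem_commutant.1 g.2) ⟨a, ha⟩)
        · rw [show f c = b ⟨c, hc⟩ from LinearMap.ofIsCompl_apply_right hU ⟨c, hc⟩,
            show f (N c) = _ from hfl (N.rangeRestrict c)]
          exact congrArg Subtype.val (LinearMap.congr_fun hL ((g : Module.End K R) (N.rangeRestrict c))))
      exact ⟨⟨f, hf⟩, Subtype.ext (LinearMap.ext fun v => Subtype.ext (hfl v))⟩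
    have hker : Module.finrank K (W ⧸ R) * Module.finrank K (LinearMap.ker N) ≤
        Module.finrank K (LinearMap.ker ψ) := by
      rw [← Module.finrank_linearMap (R := K) (S := K) (M := W ⧸ R) (N := LinearMap.ker N)]
      let Θ : ((W ⧸ R) →ₗ[K] LinearMap.ker N) →ₗ[K] Module.End K W :=
        { toFun := fun h => (LinearMap.ker N).subtype ∘ₗ h ∘ₗ R.mkQ
          map_add' := fun _ _ => rfl
          map_smul' := fun _ _ => rfl }
      have hΘ : ∀ h v, Θ h v = (h (R.mkQ v) : W) := fun _ _ => rfl
      have hmem : ∀ h, Θ h ∈ commutant N := fun h => mem_commutant.2 (LinearMap.ext fun v => by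
        rw [Module.End.mul_apply, Module.End.mul_apply, hΘ, hΘ, LinearMap.mem_ker.1 (h _).2,
          show R.mkQ (N v) = 0 from (Submodule.Quotient.mk_eq_zero R).2 (LinearMap.mem_range_self N v),
          map_zero, Submodule.coe_zero])
      let Θ' : ((W ⧸ R) →ₗ[K] LinearMap.ker N) →ₗ[K] LinearMap.ker ψ :=
        (Θ.codRestrict (commutant N) hmem).codRestrict (LinearMap.ker ψ) fun h => LinearMap.mem_ker.2
          (Subtype.ext (LinearMap.ext fun v => Subtype.ext (by
            show Θ h (v : W) = 0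
            rw [hΘ, show R.mkQ (v : W) = 0 from (Submodule.Quotient.mk_eq_zero R).2 v.2, map_zero,
              Submodule.coe_zero])))
      refine LinearMap.finrank_le_finrank_of_injective (f := Θ') fun h₁ h₂ e => ?_
      refine LinearMap.ext fun u => ?_
      obtain ⟨v, rfl⟩ := R.mkQ_surjective u
      exact Subtype.ext (LinearMap.congr_fun (congrArg Subtype.val (congrArg Subtype.val e) :
        Θ h₁ = Θ h₂) v)
    have h1 := LinearMap.finrank_range_add_finrank_ker (K := K) (V := ↥(commutant N)) (V₂ := ↥(commutant M)) ψ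
    rw [hψ, finrank_top] at h1
    have h2 := R.finrank_quotient_add_finrank
    have h3 := N.finrank_range_add_finrank_ker
    rw [← hR] at h3
    have h4 : Module.finrank K (LinearMap.ker N) = Module.finrank K (W ⧸ R) := by omega
    rw [h4] at hker
    rw [← h1, ← h2]
    generalize Module.finrank K (W ⧸ R) = a at *
    generalize Module.finrank K R = b at *
    generalize Module.finrank K (commutant M) = c at *
    generalize Module.finrank K (LinearMap.ker ψ) = d at *
    rcases Nat.eq_zero_or_pos s with rfl | hs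
    · have : b = 0 := by nlinarith
      subst this; nlinarith
    · have e1 : ((a : ℤ) * s - b) ^ 2 ≥ 0 := sq_nonneg _
      have e2 : (b : ℤ) ^ 2 ≤ s * c := by exact_mod_cast hind
      have e3 : (a : ℤ) * a ≤ d := by exact_mod_cast hker
      have e6 := mul_le_mul_of_nonneg_left e2 (by positivity : (0 : ℤ) ≤ (s : ℤ) + 1)
      have e7 := mul_le_mul_of_nonneg_left e3 (by positivity : (0 : ℤ) ≤ ((s : ℤ) + 1) * s)
      have e4 : ((a : ℤ) + b) ^ 2 * s ≤ ((s : ℤ) + 1) * (c + d) * s := by linarith
      have e5 : ((a : ℤ) + b) ^ 2 ≤ ((s : ℤ) + 1) * (c + d) :=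
        le_of_mul_le_mul_right e4 (by exact_mod_cast hs)
      exact_mod_cast e5

/-- A `p`-group of order `r` acting semiregularly away from `x0`. -/
theorem card_orbits_of_free {A X : Type*} [Group A] [Finite A] [MulAction A X] [Finite X] {r : ℕ}
    (hA : Nat.card A = r) (x0 : X) (hx0 : ∀ a : A, a • x0 = x0)
    (hfree : ∀ x : X, x ≠ x0 → ∀ a : A, a • x = x → a = 1) :
    Nat.card X + r = 1 + r * Nat.card (MulAction.orbitRel.Quotient A X) := by
  classical
  have := Fintype.ofFinite (MulAction.orbitRel.Quotient A X)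
  set ω0 : MulAction.orbitRel.Quotient A X := Quotient.mk'' x0 with hω0
  have horb : ∀ ω : MulAction.orbitRel.Quotient A X,
      Nat.card (MulAction.orbit A ω.out) = if ω = ω0 then 1 else r := by
    intro ω
    split_ifs with h
    · subst h
      have hx : (Quotient.mk'' x0 : MulAction.orbitRel.Quotient A X).out = x0 := by
        obtain ⟨a, ha⟩ := Quotient.mk_out (s := MulAction.orbitRel A X) x0
        exact ha.symm.trans (hx0 a)
      rw [hω0, hx, Nat.card_eq_one_iff_unique]
      refine ⟨⟨fun u v => Subtype.ext ?_⟩, ⟨⟨x0, MulAction.mem_orbit_self _⟩⟩⟩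
      obtain ⟨a, ha⟩ := u.2
      obtain ⟨b, hb⟩ := v.2
      rw [← ha, ← hb]
      exact (hx0 a).trans (hx0 b).symm
    · have hne : ω.out ≠ x0 := fun e => h (by rw [← Quotient.out_eq' ω, e])
      have hst : MulAction.stabilizer A ω.out = ⊥ :=
        (Subgroup.eq_bot_iff_forall _).2 fun a ha => hfree _ hne a (MulAction.mem_stabilizer_iff.1 ha)
      rw [← hA, Nat.card_congr (MulAction.orbitEquivQuotientStabilizer A ω.out), hst]
      exact Nat.card_congr QuotientGroup.quotientBot.toEquiv
  rw [Nat.card_congr (MulAction.selfEquivSigmaOrbits A X), Nat.card_sigma, Finset.sum_congr rfl fun ω _ => horb ω,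
    Nat.card_eq_fintype_card, Finset.sum_ite, Finset.filter_eq' Finset.univ ω0, if_pos (Finset.mem_univ _),
    Finset.filter_ne' Finset.univ ω0]
  simp only [Finset.sum_const, smul_eq_mul, Finset.card_singleton, Finset.card_erase_of_mem (Finset.mem_univ _),
    Finset.card_univ, mul_one]
  obtain ⟨k, hk⟩ : ∃ k, Fintype.card (MulAction.orbitRel.Quotient A X) = k + 1 :=
    ⟨_, (Nat.succ_pred_eq_of_pos (Fintype.card_pos_iff.2 ⟨ω0⟩)).symm⟩
  rw [hk, Nat.add_sub_cancel]
  ring

variable {K W Q : Type*} [Field K] [AddCommGroup W] [Module K W] [FiniteDimensional K W]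
  [Group Q] [Finite Q] {q r : ℕ}

/-- The core inequality for a semiregular automorphism of order `r` induced by an operator with large
commutant. -/
theorem pow_add_one_le_of_scalar [Fact q.Prime] (hr : 1 < r) (hQ : Cfsg.IsExtraspecial q Q)
    (hqK : (q : K) ≠ 0) [Nontrivial W]
    (π : Q →* Module.End K W) (lam : Subgroup.center Q →* K) (hlam : ∀ z : Subgroup.center Q, π z = lam z • 1)
    (hlinj : ∀ z : Subgroup.center Q, lam z = 1 → z = 1)
    (σ : MulAut Q) (hσ : σ ^ r = 1) (hσZ : ∀ z ∈ Subgroup.center Q, σ z = z)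
    (hfpf : ∀ k, 0 < k → k < r → ∀ g : Q, (σ ^ k) g * g⁻¹ ∈ Subgroup.center Q → g ∈ Subgroup.center Q)
    (S : Module.End K W) (hS : S ^ r = 1) (hSπ : ∀ g, S * π g = π (σ g) * S)
    (hcomm : Module.finrank K W ^ 2 ≤ (r - 1) * Module.finrank K (commutant S)) :
    ∃ n : ℕ, 1 ≤ n ∧ Nat.card Q = q ^ (2 * n + 1) ∧ q ^ n + 1 ≤ r ∧ r ∣ (q ^ n + 1) * (q ^ n - 1) := by
  classical
  have := Fintype.ofFinite Q
  have hqp := (Fact.out : q.Prime)
  obtain ⟨n, hn1, hn, -⟩ := Agent.PGroup.extraspecial_card hQ
  have hcomZ : ∀ a b : Q, ⁅a, b⁆ ∈ (Subgroup.center Q) := Agent.PGroup.special_commutator_mem_center hQ.1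
  have hidx : Nat.card (Q ⧸ (Subgroup.center Q)) = q ^ (2 * n) := by
    have h2 := Subgroup.card_mul_index (Subgroup.center Q)
    rw [hQ.2, hn, pow_succ', Subgroup.index_eq_card] at h2
    exact Nat.eq_of_mul_eq_mul_left hqp.pos h2
  -- the characters
  let χ : Q → Q → K := fun g h => lam ⟨⁅h, g⁆, hcomZ h g⟩
  have hχmul : ∀ g h k, χ g (h * k) = χ g h * χ g k := fun g h k => by
    simp only [χ, ← map_mul]
    congr 1
    exact Subtype.ext (Agent.PGroup.commutator_mul_left (hcomZ k g))
  have hχmul' : ∀ g g' h, χ (g * g') h = χ g h * χ g' h := fun g g' h => by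
    simp only [χ, ← map_mul]
    congr 1
    exact Subtype.ext (Agent.PGroup.commutator_mul_right (hcomZ h g'))
  have hχ1 : ∀ g, χ g 1 = 1 := fun g => by
    simp only [χ, ← map_one lam]; congr 1; exact Subtype.ext (commutatorElement_one_left g)
  have hχne : ∀ g h, χ g h ≠ 0 := fun g h e => by
    have : χ g (h * h⁻¹) = 0 := by rw [hχmul, e, zero_mul]
    rw [mul_inv_cancel, hχ1] at this
    exact one_ne_zero this
  have hχz : ∀ z ∈ (Subgroup.center Q), ∀ h, χ z h = 1 := fun z hz h => by
    simp only [χ, ← map_one lam]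
    congr 1
    exact Subtype.ext (commutatorElement_eq_one_iff_mul_comm.2 (Subgroup.mem_center_iff.1 hz h))
  have hχz' : ∀ z ∈ (Subgroup.center Q), ∀ g, χ g z = 1 := fun z hz g => by
    simp only [χ, ← map_one lam]
    congr 1
    exact Subtype.ext (commutatorElement_eq_one_iff_mul_comm.2 (Subgroup.mem_center_iff.1 hz g).symm)
  have hχσ : ∀ g h, χ (σ g) (σ h) = χ g h := fun g h => by
    simp only [χ]
    congr 1
    refine Subtype.ext ?_
    show ⁅σ h, σ g⁆ = ⁅h, g⁆
    rw [← map_commutatorElement, hσZ _ (hcomZ h g)]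
  have hχtriv : ∀ g, (∀ h, χ g h = 1) → g ∈ (Subgroup.center Q) := fun g hg => Subgroup.mem_center_iff.2 fun h =>
    commutatorElement_eq_one_iff_mul_comm.1 (congrArg Subtype.val (hlinj ⟨⁅h, g⁆, hcomZ h g⟩ (hg h)))
  have hχtriv' : ∀ h, (∀ g, χ g h = 1) → h ∈ (Subgroup.center Q) := fun h hh => Subgroup.mem_center_iff.2 fun g =>
    (commutatorElement_eq_one_iff_mul_comm.1 (congrArg Subtype.val (hlinj ⟨⁅h, g⁆, hcomZ h g⟩ (hh g)))).symm
  have hπu : ∀ g, π g * π g⁻¹ = 1 := fun g => by rw [← map_mul, mul_inv_cancel, map_one]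
  have hπu' : ∀ g, π g⁻¹ * π g = 1 := fun g => by rw [← map_mul, inv_mul_cancel, map_one]
  have hconj : ∀ g h, π h * π g * π h⁻¹ = χ g h • π g := fun g h => by
    have := hlam ⟨⁅h, g⁆, hcomZ h g⟩
    rw [← map_mul, ← map_mul, show h * g * h⁻¹ = ⁅h, g⁆ * g by group, map_mul]
    simp only [χ]
    rw [show π ⁅h, g⁆ = lam ⟨⁅h, g⁆, hcomZ h g⟩ • 1 from this, smul_mul_assoc, one_mul]
  -- the centralizer of `π Q` and the projections
  let B : Submodule K (Module.End K W) :=
    { carrier := {f | ∀ k, π k * f * π k⁻¹ = f}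
      zero_mem' := fun k => by simp
      add_mem' := fun {a b} ha hb k => by rw [mul_add, add_mul, ha, hb]
      smul_mem' := fun c a ha k => by rw [mul_smul_comm, smul_mul_assoc, ha] }
  let P : Q → Module.End K W →ₗ[K] Module.End K W := fun g =>
    ∑ h : Q, (χ g h)⁻¹ • ((LinearMap.mulLeft K (π h)) ∘ₗ (LinearMap.mulRight K (π h⁻¹)))
  have hP : ∀ g f, P g f = ∑ h : Q, (χ g h)⁻¹ • (π h * f * π h⁻¹) := fun g f => by
    simp only [P, LinearMap.sum_apply, LinearMap.smul_apply, LinearMap.coe_comp, Function.comp_apply,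
      LinearMap.mulLeft_apply, LinearMap.mulRight_apply, mul_assoc]
  have hPconj : ∀ g k f, π k * P g f * π k⁻¹ = χ g k • P g f := by
    intro g k f
    rw [hP, Finset.mul_sum, Finset.sum_mul, Finset.smul_sum]
    conv_rhs => rw [← Equiv.sum_comp (Equiv.mulLeft k)]
    refine Finset.sum_congr rfl fun h _ => ?_
    rw [mul_smul_comm, smul_mul_assoc, Equiv.coe_mulLeft, smul_smul, hχmul, mul_inv, ← mul_assoc (χ g k),
      mul_inv_cancel₀ (hχne g k), one_mul, map_mul, mul_inv_rev, map_mul]
    simp only [mul_assoc]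
  have hPB : ∀ g f, π g⁻¹ * P g f ∈ B := by
    intro g f k
    have h1 : χ g⁻¹ k * χ g k = 1 := by rw [← hχmul', inv_mul_cancel]; exact hχz 1 (one_mem _) k
    calc π k * (π g⁻¹ * P g f) * π k⁻¹ = (π k * π g⁻¹ * π k⁻¹) * (π k * P g f * π k⁻¹) := by
          simp only [mul_assoc]
          rw [← mul_assoc (π k⁻¹) (π k), hπu', one_mul]
      _ = (χ g⁻¹ k * χ g k) • (π g⁻¹ * P g f) := by
          rw [hconj, hPconj, smul_mul_smul_comm]
      _ = _ := by rw [h1, one_smul]
  have hPz : ∀ g, ∀ z ∈ (Subgroup.center Q), P (g * z) = P g := fun g z hz => by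
    refine LinearMap.ext fun f => ?_
    rw [hP, hP]
    refine Finset.sum_congr rfl fun h _ => ?_
    rw [hχmul', hχz z hz, mul_one]
  have hPσ : ∀ g, ∀ f ∈ commutant S, P (σ g) f * S = S * P g f := by
    intro g f hf
    rw [hP, hP, Finset.sum_mul, Finset.mul_sum]
    conv_lhs => rw [← Equiv.sum_comp σ.toEquiv]
    refine Finset.sum_congr rfl fun h _ => ?_
    show (χ (σ g) (σ h))⁻¹ • (π (σ h) * f * π (σ h)⁻¹) * S = S * ((χ g h)⁻¹ • (π h * f * π h⁻¹))
    rw [hχσ, smul_mul_assoc, mul_smul_comm, ← map_inv σ]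
    congr 1
    rw [mul_assoc, ← hSπ, ← mul_assoc, mul_assoc (π (σ h)), ← mem_commutant.1 hf, ← mul_assoc, ← hSπ]
    simp only [mul_assoc]
  have hsumhom : ∀ f : Q →* K, (∑ h : Q, f h) = if f = 1 then (Fintype.card Q : K) else 0 :=
    fun f => by convert sum_hom_units f using 1; split_ifs <;> simp
  have hsumP : ∀ f, ∑ g : Q, P g f = ((Fintype.card Q : K) * (q : K)) • f := by
    intro f
    simp only [hP]
    rw [Finset.sum_comm]
    have key : ∀ h : Q, ∑ g : Q, (χ g h)⁻¹ = if h ∈ (Subgroup.center Q) then (Fintype.card Q : K) else 0 := by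
      intro h
      let φ : Q →* K :=
        { toFun := fun g => (χ g h)⁻¹
          map_one' := by rw [hχz 1 (one_mem _) h, inv_one]
          map_mul' := fun a b => by rw [hχmul', mul_inv] }
      have h1 := hsumhom φ
      rw [show (∑ g : Q, (χ g h)⁻¹) = ∑ g : Q, φ g from rfl, h1]
      refine if_congr ⟨fun e => hχtriv' h fun g => inv_eq_one.1 (DFunLike.congr_fun e g), fun hz =>
        MonoidHom.ext fun g => by simp [φ, hχz' h hz g]⟩ rfl rfl
    simp only [← Finset.sum_smul, key, ite_smul, zero_smul]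
    rw [← Finset.sum_filter]
    have hz : ∀ h ∈ Finset.univ.filter (· ∈ (Subgroup.center Q)), π h * f * π h⁻¹ = f := by
      intro h hh
      have hh' : h ∈ (Subgroup.center Q) := (Finset.mem_filter.1 hh).2
      have e1 := hlam ⟨h, hh'⟩
      rw [show π h = lam ⟨h, hh'⟩ • 1 from e1, smul_mul_assoc, one_mul]
      have e2 : π h * π h⁻¹ = 1 := hπu h
      rw [show π h = lam ⟨h, hh'⟩ • 1 from e1, smul_mul_assoc, one_mul] at e2
      rw [smul_mul_assoc, ← mul_smul_comm, e2, mul_one]
    rw [Finset.sum_congr rfl fun h hh => by rw [hz h hh], Finset.sum_const, ← Nat.cast_smul_eq_nsmul K, smul_smul]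
    congr 1
    rw [mul_comm]
    congr 2
    rw [← hQ.2, Nat.card_eq_fintype_card, Fintype.card_subtype]
  have hcQ : (Fintype.card Q : K) ≠ 0 := by
    rw [← Nat.card_eq_fintype_card, hn, Nat.cast_pow]
    exact pow_ne_zero _ hqK
  -- lower bound: `dim End W ≥ |Q/(Subgroup.center Q)| dim B`
  have := Fintype.ofFinite (Q ⧸ (Subgroup.center Q))
  let T : ((Q ⧸ (Subgroup.center Q)) → B) →ₗ[K] Module.End K W :=
    ∑ x : Q ⧸ (Subgroup.center Q), (LinearMap.mulLeft K (π x.out)) ∘ₗ B.subtype ∘ₗ LinearMap.proj x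
  have hT : ∀ b, T b = ∑ x : Q ⧸ (Subgroup.center Q), π x.out * (b x : Module.End K W) := fun b => by simp [T]
  have hTinj : Function.Injective T := by
    refine (injective_iff_map_eq_zero T).2 fun b hb => funext fun y => ?_
    have h1 : P y.out (T b) = 0 := by rw [hb, map_zero]
    rw [hT, map_sum, Finset.sum_eq_single y] at h1
    · have h2 : P y.out (π y.out * (b y : Module.End K W)) = (Fintype.card Q : K) • (π y.out * (b y : Module.End K W)) := by
        rw [hP]
        have : ∀ h : Q, π h * (π y.out * (b y : Module.End K W)) * π h⁻¹ = χ y.out h • (π y.out * (b y : Module.End K W)) := by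
          intro h
          rw [← smul_mul_assoc, ← hconj]
          conv_rhs => rw [← (b y).2 h]
          simp only [mul_assoc]
          rw [← mul_assoc (π h⁻¹) (π h), hπu', one_mul]
        simp only [this, smul_smul, inv_mul_cancel₀ (hχne _ _), one_smul, Finset.sum_const, Finset.card_univ,
          Nat.cast_smul_eq_nsmul]
      rw [h2, smul_eq_zero, or_iff_right hcQ] at h1
      refine Subtype.ext ?_
      rw [← one_mul (b y : Module.End K W), ← hπu' y.out, mul_assoc, h1, mul_zero]
      rfl
    · intro x _ hxy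
      rw [hP]
      have : ∀ h : Q, π h * (π x.out * (b x : Module.End K W)) * π h⁻¹ = χ x.out h • (π x.out * (b x : Module.End K W)) := by
        intro h
        rw [← smul_mul_assoc, ← hconj]
        conv_rhs => rw [← (b x).2 h]
        simp only [mul_assoc]
        rw [← mul_assoc (π h⁻¹) (π h), hπu', one_mul]
      simp only [this, smul_smul, ← Finset.sum_smul]
      let φ : Q →* K :=
        { toFun := fun h => (χ y.out h)⁻¹ * χ x.out h
          map_one' := by rw [hχ1, hχ1, inv_one, one_mul]
          map_mul' := fun a b => by rw [hχmul, hχmul, mul_inv]; ring }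
      have h1' := hsumhom φ
      rw [show (∑ h : Q, (χ y.out h)⁻¹ * χ x.out h) = ∑ h : Q, φ h from rfl, h1', if_neg, zero_smul]
      intro e
      apply hxy
      rw [← QuotientGroup.out_eq' x, ← QuotientGroup.out_eq' y]
      refine QuotientGroup.eq.2 (hχtriv _ fun h => ?_)
      have e1 : (χ y.out h)⁻¹ * χ x.out h = 1 := DFunLike.congr_fun e h
      have e2 : χ x.out h = χ y.out h := ((inv_mul_eq_one₀ (hχne _ _)).1 e1).symm
      rw [hχmul', ← e2]
      rw [← hχmul', inv_mul_cancel]
      exact hχz 1 (one_mem _) h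
    · simp
  have hlow := LinearMap.finrank_le_finrank_of_injective hTinj
  rw [Module.finrank_pi_fintype, Finset.sum_const, Finset.card_univ, ← Nat.card_eq_fintype_card, hidx,
    smul_eq_mul, Module.finrank_linearMap, ← pow_two] at hlow
  -- upper bound: `dim C(S) ≤ #orbits · dim B`
  letI : MulAction (Subgroup.zpowers σ) (Q ⧸ (Subgroup.center Q)) :=
    { smul := fun τ x => QuotientGroup.map (Subgroup.center Q) (Subgroup.center Q) (τ : MulAut Q).toMonoidHom (fun z hz =>
        Subgroup.characteristic_iff_map_le.1 (inferInstance : (Subgroup.center Q).Characteristic) (τ : MulAut Q)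
          (Subgroup.mem_map_of_mem _ hz)) x
      one_smul := fun x => by induction x using QuotientGroup.induction_on; rfl
      mul_smul := fun a b x => by induction x using QuotientGroup.induction_on; rfl }
  let σ' : Subgroup.zpowers σ := ⟨σ, Subgroup.mem_zpowers σ⟩
  let N := Nat.card (MulAction.orbitRel.Quotient (Subgroup.zpowers σ) (Q ⧸ (Subgroup.center Q)))
  have hnc : ¬ (Subgroup.center Q = ⊤) := Agent.PGroup.extraspecial_not_commutative hQ
  obtain ⟨g0, hg0⟩ : ∃ g : Q, g ∉ Subgroup.center Q := by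
    by_contra h
    push Not at h
    exact hnc (eq_top_iff.2 fun g _ => h g)
  have hord : orderOf σ = r := by
    refine le_antisymm (orderOf_le_of_pow_eq_one (by omega) hσ) (not_lt.1 fun hlt => hg0 ?_)
    exact hfpf _ (orderOf_pos σ) hlt g0 (by rw [pow_orderOf_eq_one]; simp)
  have hA : Nat.card (Subgroup.zpowers σ) = r := by rw [Nat.card_zpowers, hord]
  have horb : q ^ (2 * n) + r = 1 + r * N := by
    rw [← hidx]
    refine card_orbits_of_free hA (1 : Q ⧸ (Subgroup.center Q))
      (fun a => map_one (QuotientGroup.map (Subgroup.center Q) (Subgroup.center Q) _ _)) fun x hx a ha => ?_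
    induction x using QuotientGroup.induction_on with | H g => ?_
    obtain ⟨k, hk⟩ := mem_powers_iff_mem_zpowers.2 a.2
    simp only at hk
    by_contra ha1
    have hk' : (σ ^ (k % r)) = (a : MulAut Q) := by rw [← hord, pow_mod_orderOf, hk]
    have hkpos : 0 < k % r := Nat.pos_of_ne_zero fun e => ha1 (Subtype.ext (by rw [← hk', e, pow_zero]; rfl))
    have h1 : (((a : MulAut Q) g : Q) : Q ⧸ (Subgroup.center Q)) = (g : Q ⧸ (Subgroup.center Q)) := ha
    rw [← hk', QuotientGroup.eq_iff_div_mem, div_eq_mul_inv] at h1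
    exact hx ((QuotientGroup.eq_one_iff g).2 (hfpf _ hkpos (Nat.mod_lt _ (by omega)) g h1))
  have := Fintype.ofFinite (MulAction.orbitRel.Quotient (Subgroup.zpowers σ) (Q ⧸ (Subgroup.center Q)))
  let rep : MulAction.orbitRel.Quotient (Subgroup.zpowers σ) (Q ⧸ (Subgroup.center Q)) → Q := fun ω => ω.out.out
  let Φ : commutant S →ₗ[K] (MulAction.orbitRel.Quotient (Subgroup.zpowers σ) (Q ⧸ (Subgroup.center Q)) → B) :=
    LinearMap.pi fun ω => ((LinearMap.mulLeft K (π (rep ω)⁻¹)) ∘ₗ (P (rep ω)) ∘ₗ (commutant S).subtype).codRestrict B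
      (fun f => hPB _ _)
  have hΦinj : Function.Injective Φ := by
    refine (injective_iff_map_eq_zero Φ).2 fun f hf => Subtype.ext ?_
    have hrep : ∀ ω, P (rep ω) (f : Module.End K W) = 0 := fun ω => by
      have h1 : π (rep ω)⁻¹ * P (rep ω) (f : Module.End K W) = 0 := congrArg Subtype.val (congrFun hf ω)
      rw [← one_mul (P _ _), ← hπu (rep ω), mul_assoc, h1, mul_zero]
    let A : Subgroup (MulAut Q) :=
      { carrier := {τ | ∀ g, P (τ g) (f : Module.End K W) = 0 ↔ P g (f : Module.End K W) = 0}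
        one_mem' := fun g => Iff.rfl
        mul_mem' := fun {a b} ha hb g => (ha (b g)).trans (hb g)
        inv_mem' := fun {a} ha g => by
          have := ha (a⁻¹ g)
          rwa [MulAut.inv_def, MulEquiv.apply_symm_apply, iff_comm] at this }
    have hS' : S * S ^ (r - 1) = 1 ∧ S ^ (r - 1) * S = 1 := by
      rw [← pow_succ', ← pow_succ, Nat.sub_add_cancel hr.le, hS]; exact ⟨rfl, rfl⟩
    have hσA : Subgroup.zpowers σ ≤ A := Subgroup.zpowers_le.2 fun g => by
      constructor
      · intro h
        have := hPσ g f f.2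
        rw [h, zero_mul] at this
        rw [← one_mul (P g _), ← hS'.2, mul_assoc, ← this, mul_zero]
      · intro h
        have := hPσ g f f.2
        rw [h, mul_zero] at this
        rw [← mul_one (P (σ g) _), ← hS'.1, ← mul_assoc, this, zero_mul]
    have hall : ∀ g, P g (f : Module.End K W) = 0 := by
      intro g
      set ω : MulAction.orbitRel.Quotient (Subgroup.zpowers σ) (Q ⧸ (Subgroup.center Q)) := Quotient.mk'' (g : Q ⧸ (Subgroup.center Q)) with hω
      obtain ⟨τ, hτ⟩ : (g : Q ⧸ (Subgroup.center Q)) ∈ MulAction.orbit (Subgroup.zpowers σ) ω.out := by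
        have := Quotient.mk_out (s := MulAction.orbitRel (Subgroup.zpowers σ) (Q ⧸ (Subgroup.center Q))) (g : Q ⧸ (Subgroup.center Q))
        exact (MulAction.orbitRel (Subgroup.zpowers σ) (Q ⧸ (Subgroup.center Q))).symm this
      rw [← QuotientGroup.out_eq' ω.out] at hτ
      have h1 : (((τ : MulAut Q) (rep ω) : Q) : Q ⧸ (Subgroup.center Q)) = (g : Q ⧸ (Subgroup.center Q)) := hτ
      have h2 := QuotientGroup.eq.1 h1
      rw [show g = (τ : MulAut Q) (rep ω) * (((τ : MulAut Q) (rep ω))⁻¹ * g) by group, hPz _ _ h2,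
        hσA τ.2 (rep ω)]
      exact hrep ω
    have := hsumP (f : Module.End K W)
    rw [Finset.sum_eq_zero fun g _ => hall g, eq_comm, smul_eq_zero, or_iff_right (mul_ne_zero hcQ hqK)] at this
    exact this
  have hup := LinearMap.finrank_le_finrank_of_injective hΦinj
  rw [Module.finrank_pi_fintype, Finset.sum_const, Finset.card_univ, ← Nat.card_eq_fintype_card, smul_eq_mul] at hup
  change _ ≤ N * _ at hup
  have hmain := hcomm
  have hbpos : 0 < Module.finrank K B := by
    refine Module.finrank_pos_iff_exists_ne_zero.2 ⟨⟨1, fun k => by rw [mul_one, hπu]⟩, fun e => ?_⟩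
    have := congrArg Subtype.val e
    obtain ⟨v, hv⟩ := exists_ne (0 : W)
    exact hv (by simpa using LinearMap.congr_fun this v)
  -- arithmetic
  have h3 : q ^ (2 * n) ≤ (r - 1) * N := by
    refine Nat.le_of_mul_le_mul_right ?_ hbpos
    rw [mul_assoc]
    exact hlow.trans (hmain.trans (Nat.mul_le_mul_left _ hup))
  obtain ⟨s, rfl⟩ : ∃ s, r = s + 1 := ⟨r - 1, (Nat.sub_add_cancel hr.le).symm⟩
  rw [Nat.add_sub_cancel] at h3
  have h4 : (q ^ n) ^ 2 = q ^ (2 * n) := by rw [← pow_mul, mul_comm]
  have hX : q ^ n ≤ s := by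
    have h5 : (s + 1) * q ^ (2 * n) ≤ s * ((s + 1) * N) :=
      calc (s + 1) * q ^ (2 * n) ≤ (s + 1) * (s * N) := Nat.mul_le_mul_left _ h3
        _ = s * ((s + 1) * N) := by ring
    rw [show (s + 1) * N = q ^ (2 * n) + s by omega] at h5
    have : (q ^ n) ^ 2 ≤ s ^ 2 := by rw [h4]; nlinarith
    exact (Nat.pow_le_pow_iff_left two_ne_zero).1 this
  have hdvd : s + 1 ∣ (q ^ n + 1) * (q ^ n - 1) := by
    refine ⟨N - 1, ?_⟩
    rw [← Nat.sq_sub_sq, h4, one_pow, Nat.mul_sub, mul_one]
    omega
  exact ⟨n, by omega, hn, by omega, hdvd⟩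

end Cfsg.Agent.HallHigman
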