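import Cfsg.Agent.Lib.HallHigman.Linear
import Cfsg.Agent.Lib.PGroup.Basic

/-!
# Quadratic elements and the derived series of a `p`-group (`p` odd)

* `mem_centralizer_of_quadratic_derived`: in a linear group in characteristic `p`, a quadratic `z ∈ ⁅B, B⁆`
  centralising the `p`-group `B` with `(z - 1) (y - 1) ^ 2 = 0` on `B` centralises every `B`-invariant `q`-subgroup
* `eq_one_of_quadratic_derived`: hence `z = 1` in a `p`-soluble group with trivial `p`-core
* `commutator_le_of_quadratic`: an abelian `⁅B, B⁆`, `B` normalised by a `p`-group above `V`, lies in `V = O_p(G)`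
-/

set_option autoImplicit false
set_option linter.style.haveILetI false

namespace Cfsg.Agent.HallHigman

open Finset
open scoped commutatorElement

variable {K : Type*} [Field K] {W : Type*} [AddCommGroup W] [Module K W] {p : ℕ} [Fact p.Prime]

/-- Joint eigenvectors of three characters, one differing from the other two, summing to zero. -/
theorem eq_zero_of_three {A : Type*} (π : A → Module.End K W) (χ₀ χ₁ χ₂ : A → K) {v₀ v₁ v₂ : W}
    (h₀ : ∀ a, π a v₀ = χ₀ a • v₀) (h₁ : ∀ a, π a v₁ = χ₁ a • v₁) (h₂ : ∀ a, π a v₂ = χ₂ a • v₂)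
    (h01 : χ₀ ≠ χ₁) (h02 : χ₀ ≠ χ₂) (hsum : v₀ + v₁ + v₂ = 0) : v₀ = 0 := by
  obtain ⟨a, ha⟩ := Function.ne_iff.1 h01
  obtain ⟨b, hb⟩ := Function.ne_iff.1 h02
  have e1 : (χ₀ a - χ₁ a) • v₀ + (χ₂ a - χ₁ a) • v₂ = 0 := by
    have h := congrArg (π a) hsum
    rw [map_add, map_add, h₀, h₁, h₂, map_zero] at h
    calc (χ₀ a - χ₁ a) • v₀ + (χ₂ a - χ₁ a) • v₂
        = (χ₀ a • v₀ + χ₁ a • v₁ + χ₂ a • v₂) - χ₁ a • (v₀ + v₁ + v₂) := by
          simp only [sub_smul, smul_add]; abel
      _ = 0 := by rw [h, hsum, smul_zero, sub_zero]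
  have e2 : ((χ₀ b - χ₂ b) * (χ₀ a - χ₁ a)) • v₀ = 0 := by
    have h := congrArg (π b) e1
    rw [map_add, map_smul, map_smul, h₀, h₂, map_zero] at h
    calc ((χ₀ b - χ₂ b) * (χ₀ a - χ₁ a)) • v₀
        = ((χ₀ a - χ₁ a) • χ₀ b • v₀ + (χ₂ a - χ₁ a) • χ₂ b • v₂) -
            χ₂ b • ((χ₀ a - χ₁ a) • v₀ + (χ₂ a - χ₁ a) • v₂) := by module
      _ = 0 := by rw [h, e1, smul_zero, sub_zero]
  exact (smul_eq_zero.1 e2).resolve_left (mul_ne_zero (sub_ne_zero.2 hb) (sub_ne_zero.2 ha))

/-- If `Y` moves the character `μ` then `T (Y - 1) ^ 2 = 0` forces `T = 0` on the eigenspace of `μ`. -/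
theorem eq_zero_of_moved {A : Type*} (hp2 : p ≠ 2) (π : A → Module.End K W) (σ : Equiv.Perm A) {n : ℕ}
    (hσ : σ ^ p ^ n = 1) (Y T : Module.End K W) (hY : ∀ a, Y * π a = π (σ a) * Y)
    (hT : ∀ a, T * π a = π a * T) (h : T * (Y - 1) * (Y - 1) = 0) (μ : A → K) (hμ : ∃ a, μ (σ a) ≠ μ a)
    {v : W} (hv : ∀ a, π a v = μ a • v) : T v = 0 := by
  have hY' : ∀ (χ : A → K) (w : W), (∀ a, π a w = χ a • w) → ∀ a, π a (Y w) = χ (σ.symm a) • Y w := by
    intro χ w hw a
    have h1 := LinearMap.congr_fun (hY (σ.symm a)) w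
    rw [Equiv.apply_symm_apply, Module.End.mul_apply, Module.End.mul_apply, hw, map_smul] at h1
    exact h1.symm
  have hT' : ∀ (χ : A → K) (w : W), (∀ a, π a w = χ a • w) → ∀ a, π a (T w) = χ a • T w := fun χ w hw a => by
    rw [← Module.End.mul_apply, ← hT, Module.End.mul_apply, hw, map_smul]
  obtain ⟨a₀, ha₀⟩ := hμ
  have h1 := hY' _ _ hv
  have h2 := hY' _ _ h1
  refine eq_zero_of_three π μ (fun a => μ (σ.symm a)) (fun a => μ (σ.symm (σ.symm a)))
    (v₁ := -(T (Y v) + T (Y v))) (v₂ := T (Y (Y v))) (hT' _ _ hv) (fun a => ?_) (hT' _ _ h2) ?_ ?_ ?_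
  · rw [map_neg, map_add, hT' _ _ h1, smul_neg, smul_add]
  · intro e
    have := congrFun e (σ a₀)
    rw [Equiv.symm_apply_apply] at this
    exact ha₀ this
  · intro e
    have hj : ∀ (j : ℕ) (a : A), μ ((σ ^ (2 * j)) a) = μ a := by
      intro j
      induction j with
      | zero => intro a; rfl
      | succ j ih =>
        intro a
        rw [Nat.mul_succ, pow_add, Equiv.Perm.mul_apply, ih, pow_two, Equiv.Perm.mul_apply]
        have := congrFun e (σ (σ a))
        rwa [Equiv.symm_apply_apply, Equiv.symm_apply_apply] at this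
    obtain ⟨j, hj'⟩ : ∃ j, p ^ n + 1 = 2 * j := by
      have := ((Fact.out : p.Prime).odd_of_ne_two hp2).pow (n := n)
      obtain ⟨j, hj'⟩ := this.add_one
      exact ⟨j, by omega⟩
    have := hj j a₀
    rw [← hj', pow_succ, hσ, one_mul] at this
    exact ha₀ this
  · have h0 := LinearMap.congr_fun h v
    simp only [Module.End.mul_apply, LinearMap.sub_apply, Module.End.one_apply, LinearMap.zero_apply,
      map_sub] at h0
    calc T v + -(T (Y v) + T (Y v)) + T (Y (Y v))
        = T (Y (Y v)) - T (Y v) - (T (Y v) - T v) := by abel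
      _ = 0 := h0

variable [CharP K p]

omit [CharP K p] [Fact p.Prime] in
theorem quadratic_unit {S : Module.End K W} (hquad : (S - 1) * (S - 1) = 0) : IsUnit S :=
  ⟨⟨S, 2 - S, by rw [← sub_eq_zero, ← neg_eq_zero, ← hquad]; noncomm_ring,
    by rw [← sub_eq_zero, ← neg_eq_zero, ← hquad]; noncomm_ring⟩, rfl⟩

omit [CharP K p] in
/-- Operators `π g` with pairwise distinct commutator characters are independent. -/
theorem coeff_eq_zero [Nontrivial W] {R : Type*} [Group R] (π : R →* Module.End K W) {ι : Type*} [DecidableEq ι]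
    (g : ι → R) (c : R → ι → K) : ∀ (s : Finset ι) (a : ι → K),
    (∀ h, ∀ i ∈ s, π h * π (g i) = c h i • (π (g i) * π h)) →
    (∀ i ∈ s, ∀ j ∈ s, i ≠ j → ∃ h, c h i ≠ c h j) →
    ∑ i ∈ s, a i • π (g i) = 0 → ∀ i ∈ s, a i = 0 := by
  intro s
  induction s using Finset.induction_on with
  | empty => simp
  | insert j s hj ih =>
    intro a hc hsep hsum
    rw [Finset.sum_insert hj] at hsum
    have hs : ∀ i ∈ s, a i = 0 := by
      intro i hi
      obtain ⟨h, hh⟩ := hsep i (Finset.mem_insert_of_mem hi) j (Finset.mem_insert_self j s)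
        (fun e => hj (e ▸ hi))
      have key : ∑ x ∈ s, (a x * (c h x - c h j)) • π (g x) = 0 := by
        have e1 : π h * (a j • π (g j) + ∑ x ∈ s, a x • π (g x)) -
            c h j • ((a j • π (g j) + ∑ x ∈ s, a x • π (g x)) * π h) = 0 := by
          rw [hsum]; simp
        have e2 : (∑ x ∈ s, (a x * (c h x - c h j)) • π (g x)) * π h = 0 := by
          rw [← e1, mul_add, add_mul, smul_add, mul_smul_comm, hc h j (Finset.mem_insert_self j s),
            smul_mul_assoc, smul_comm (a j), add_sub_add_left_eq_sub, Finset.mul_sum, Finset.sum_mul,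
            Finset.sum_mul, Finset.smul_sum, ← Finset.sum_sub_distrib]
          refine Finset.sum_congr rfl fun x hx => ?_
          rw [mul_smul_comm, hc h x (Finset.mem_insert_of_mem hx), smul_mul_assoc, smul_mul_assoc,
            smul_smul, smul_smul, ← sub_smul, mul_sub, mul_comm (c h j)]
        have e3 := congrArg (· * π h⁻¹) e2
        simp only [mul_assoc, ← map_mul, mul_inv_cancel, map_one, mul_one, zero_mul] at e3
        exact e3
      have := ih (fun x => a x * (c h x - c h j)) (fun h' x hx => hc h' x (Finset.mem_insert_of_mem hx))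
        (fun x hx y hy => hsep x (Finset.mem_insert_of_mem hx) y (Finset.mem_insert_of_mem hy)) key i hi
      exact (mul_eq_zero.1 this).resolve_right (sub_ne_zero.2 hh)
    intro i hi
    rcases Finset.mem_insert.1 hi with rfl | hi
    · rw [Finset.sum_eq_zero fun x hx => by rw [hs x hx, zero_smul], add_zero, smul_eq_zero] at hsum
      refine hsum.resolve_right fun e => one_ne_zero (α := Module.End K W) ?_
      rw [← map_one π, ← mul_inv_cancel (g i), map_mul, e, zero_mul]
    · exact hs i hi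

/-- The class two core: a quadratic operator inducing a fixed point free automorphism of `R / Z(R)` has one orbit up to
inversion. -/
theorem orbit_of_quadratic [Nontrivial W] (hp2 : p ≠ 2) {R : Type*} [Group R]
    (π : R →* Module.End K W) (μ : Subgroup.center R → K)
    (hμ : ∀ c : Subgroup.center R, π (c : R) = μ c • 1)
    (hsep : ∀ r, r ∉ Subgroup.center R → ∃ h, π (h * r) ≠ π (r * h))
    (hcl : ∀ a b : R, ⁅a, b⁆ ∈ Subgroup.center R) (σ : MulAut R) (σb : MulAut (R ⧸ Subgroup.center R))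
    (hσb : ∀ r : R, σb (r : R ⧸ Subgroup.center R) = ((σ r : R) : R ⧸ Subgroup.center R))
    (hσp : σb ^ p = 1) (hfix : ∀ x, σb x = x → x = 1) (S : Module.End K W)
    (hSπ : ∀ r, S * π r = π (σ r) * S) (hquad : (S - 1) * (S - 1) = 0)
    (x y : R ⧸ Subgroup.center R) (hx : x ≠ 1) (hy : y ≠ 1) :
    ∃ m : ℕ, y = (σb ^ m) x ∨ y = ((σb ^ m) x)⁻¹ := by
  classical
  have hp : p.Prime := Fact.out
  have hσbk : ∀ (k : ℕ) (r : R), (σb ^ k) (r : R ⧸ Subgroup.center R) = (((σ ^ k) r : R) : R ⧸ Subgroup.center R) := by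
    intro k
    induction k with
    | zero => intro r; rfl
    | succ k ih => intro r; rw [pow_succ, MulAut.mul_apply, hσb, ih, pow_succ σ, MulAut.mul_apply]
  -- orbits are regular
  have horb : ∀ z : R ⧸ Subgroup.center R, z ≠ 1 → ∀ i < p, ∀ j < p, (σb ^ i) z = (σb ^ j) z → i = j := by
    intro z hz
    have key : ∀ i j, i < j → j < p → (σb ^ i) z ≠ (σb ^ j) z := by
      intro i j hij hjp e
      rw [show j = i + (j - i) by omega, pow_add, MulAut.mul_apply] at e
      have e' : σb ^ (j - i) ∈ MulAction.stabilizer (MulAut (R ⧸ Subgroup.center R)) z := ((σb ^ i).injective e).symm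
      have h1 := pow_pred_mem hp (n := 1) (by rwa [pow_one]) _ e' (by omega) (by rw [pow_one]; omega)
      rw [Nat.sub_self, pow_zero, pow_one] at h1
      exact hz (hfix z h1)
    intro i hi j hj e
    rcases lt_trichotomy i j with h | h | h
    · exact absurd e (key i j h hj)
    · exact h
    · exact absurd e.symm (key j i h hi)
  -- commutator characters
  let c : R → R → K := fun h r => μ ⟨⁅h, r⁆, hcl h r⟩
  have hc : ∀ h r, π h * π r = c h r • (π r * π h) := fun h r => by
    rw [← map_mul, ← map_mul, show h * r = ⁅h, r⁆ * (r * h) by rw [commutatorElement_def]; group, map_mul,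
      show π ⁅h, r⁆ = c h r • 1 from hμ ⟨_, hcl h r⟩, smul_mul_assoc, one_mul]
  have hc0 : ∀ h r, c h r ≠ 0 := fun h r e => one_ne_zero (α := Module.End K W) <| by
    have h1 := hc h r
    rw [e, zero_smul, ← map_mul] at h1
    rw [← map_one π, ← mul_inv_cancel (h * r), map_mul, h1, zero_mul]
  have hindep : ∀ (ι : Type) [DecidableEq ι] (s : Finset ι) (g : ι → R) (a : ι → K),
      (∀ i ∈ s, ∀ j ∈ s, i ≠ j → (g i : R ⧸ Subgroup.center R) ≠ g j) →
      ∑ i ∈ s, a i • π (g i) = 0 → ∀ i ∈ s, a i = 0 := by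
    intro ι _ s g a hg
    refine coeff_eq_zero π g (fun h i => c h (g i)) s a (fun h i _ => hc h (g i)) fun i hi j hj hij => ?_
    have hd : (g i)⁻¹ * g j ∉ Subgroup.center R := fun e => hg i hi j hj hij (QuotientGroup.eq.2 e)
    obtain ⟨h, hh⟩ := hsep _ hd
    refine ⟨h, fun e => hh ?_⟩
    set d := (g i)⁻¹ * g j with hddef
    have h1 := hc h (g j)
    rw [show g j = g i * d by rw [hddef]; group, map_mul, ← mul_assoc, hc h (g i),
      show c h (g i * d) = c h (g i) by rw [show g i * d = g j by rw [hddef]; group]; exact e.symm,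
      smul_mul_assoc, mul_assoc, mul_assoc] at h1
    have h2 : π (g i) * (π h * π d) = π (g i) * (π d * π h) := smul_right_injective _ (hc0 h (g i)) h1
    have h3 := congrArg (π (g i)⁻¹ * ·) h2
    simpa only [← mul_assoc, ← map_mul, inv_mul_cancel, one_mul] using h3
  -- conjugates as polynomials in `S - 1`
  set ρ := S - 1 with hρ
  have hS : S = 1 + ρ := by rw [hρ]; abel
  have hSk : ∀ k : ℕ, S ^ k = 1 + (k : Module.End K W) * ρ := by
    intro k
    induction k with
    | zero => simp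
    | succ k ih =>
      rw [pow_succ, ih, hS, show (1 + (k : Module.End K W) * ρ) * (1 + ρ) =
        1 + ((k : Module.End K W) + 1) * ρ + (k : Module.End K W) * (ρ * ρ) by noncomm_ring, hquad, mul_zero,
        add_zero, Nat.cast_succ]
  have hX : ∀ (k : ℕ) (r : R),
      π ((σ ^ k) r) = (1 + (k : Module.End K W) * ρ) * π r * (1 - (k : Module.End K W) * ρ) := by
    intro k r
    have h1 : (1 + (k : Module.End K W) * ρ) * (1 - (k : Module.End K W) * ρ) = 1 := by
      rw [show (1 + (k : Module.End K W) * ρ) * (1 - (k : Module.End K W) * ρ) =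
        1 - (k : Module.End K W) * ((ρ * (k : Module.End K W)) * ρ) by noncomm_ring,
        ← (Nat.cast_commute k ρ).eq, mul_assoc _ ρ, hquad, mul_zero, mul_zero, sub_zero]
    rw [← hSk, map_pow_of_map π σ S hSπ k r, hSk, mul_assoc, h1, mul_one]
  obtain ⟨g, rfl⟩ := QuotientGroup.mk_surjective x
  obtain ⟨h, rfl⟩ := QuotientGroup.mk_surjective y
  -- `p = 3`
  have hp3 : p = 3 := by
    by_contra hne
    have h4 : 4 ≤ p := by
      rcases Nat.lt_or_ge p 4 with h | h
      · have := hp.two_le; interval_cases p <;> omega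
      · exact h
    let a : ℕ → K := fun i => if i = 0 then -1 else if i = 1 then 3 else if i = 2 then -3 else 1
    have h0 := hindep ℕ (range 4) (fun i => (σ ^ i) g) a (fun i hi j hj hij e => hij (horb _ hx i
      (lt_of_lt_of_le (Finset.mem_range.1 hi) h4) j (lt_of_lt_of_le (Finset.mem_range.1 hj) h4) (by
        rw [hσbk, hσbk]; exact e))) (by
      have e3 : (3 : K) = ((3 : ℕ) : K) := by norm_num
      simp only [Finset.sum_range_succ, Finset.sum_range_zero, hX, a, if_true, if_false, Nat.one_ne_zero,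
        OfNat.ofNat_ne_zero, OfNat.ofNat_ne_one, Nat.reduceEqDiff, neg_smul, one_smul, zero_add]
      rw [e3, Nat.cast_smul_eq_nsmul, Nat.cast_smul_eq_nsmul]
      push_cast
      noncomm_ring) 0 (by simp)
    simp [a] at h0
  subst hp3
  have h3 : (3 : Module.End K W) = 0 := by
    rw [← Nat.cast_ofNat, ← map_natCast (algebraMap K (Module.End K W)), CharP.cast_eq_zero K 3, map_zero]
  have hsum : ∀ r, ∑ i ∈ range 3, π ((σ ^ i) r) = ρ * π r * ρ := by
    intro r
    simp only [Finset.sum_range_succ, Finset.sum_range_zero, hX]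
    calc _ = (3 : Module.End K W) * (π r + (ρ * π r - π r * ρ) - 2 • (ρ * π r * ρ)) + ρ * π r * ρ := by
          push_cast; noncomm_ring
      _ = _ := by rw [h3, zero_mul, zero_add]
  obtain ⟨u, hu, v, hv, huv, e⟩ : ∃ u ∈ range 3 ×ˢ range 3, ∃ v ∈ range 3 ×ˢ range 3, u ≠ v ∧
      (((σ ^ u.1) g * (σ ^ u.2) h : R) : R ⧸ Subgroup.center R) = ((σ ^ v.1) g * (σ ^ v.2) h : R) := by
    by_contra hno
    push Not at hno
    have := hindep (ℕ × ℕ) (range 3 ×ˢ range 3) (fun u => (σ ^ u.1) g * (σ ^ u.2) h) (fun _ => 1) hno (by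
      simp only [one_smul, map_mul, Finset.sum_product]
      rw [← Finset.sum_mul_sum, hsum, hsum, mul_assoc (ρ * π g), ← mul_assoc ρ (ρ * π h), ← mul_assoc ρ ρ, hquad,
        zero_mul, zero_mul, mul_zero]) (0, 0) (by simp)
    exact one_ne_zero this
  rw [Finset.mem_product, Finset.mem_range, Finset.mem_range] at hu hv
  let _ : CommGroup (R ⧸ Subgroup.center R) :=
    { (inferInstance : Group (R ⧸ Subgroup.center R)) with
      mul_comm := fun a b => by
        induction a using QuotientGroup.induction_on with | H a => ?_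
        induction b using QuotientGroup.induction_on with | H b => ?_
        rw [← commutatorElement_eq_one_iff_mul_comm, ← QuotientGroup.mk'_apply, ← QuotientGroup.mk'_apply (N := Subgroup.center R),
          ← map_commutatorElement]
        exact (QuotientGroup.eq_one_iff _).2 (hcl a b) }
  set g' : R ⧸ Subgroup.center R := (g : R ⧸ Subgroup.center R) with hg'
  set h' : R ⧸ Subgroup.center R := (h : R ⧸ Subgroup.center R) with hh'
  rw [QuotientGroup.mk_mul, QuotientGroup.mk_mul, ← hσbk, ← hσbk, ← hσbk, ← hσbk, ← hg', ← hh'] at e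
  let φ : R ⧸ Subgroup.center R →* R ⧸ Subgroup.center R :=
    { toFun := fun z => z / σb z
      map_one' := by simp
      map_mul' := fun a b => by rw [map_mul]; simp only [div_eq_mul_inv, mul_inv, mul_assoc, mul_left_comm] }
  have hφ : Function.Injective φ := (injective_iff_map_eq_one φ).2 fun z hz => hfix z (div_eq_one.1 hz).symm
  have hdiff : ∀ (z : R ⧸ Subgroup.center R), ∀ i < 3, ∀ k < 3, i ≠ k →
      ∃ (m : ℕ) (w : R ⧸ Subgroup.center R), (σb ^ i) z / (σb ^ k) z = φ w ∧ (w = (σb ^ m) z ∨ w = ((σb ^ m) z)⁻¹) := by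
    intro z
    have hφ' : ∀ w, φ w = w / σb w := fun w => rfl
    have e3 : σb (σb (σb z)) = z := by
      have := DFunLike.congr_fun hσp z
      simpa [pow_succ, MulAut.mul_apply] using this
    intro i hi k hk hik
    interval_cases i <;> interval_cases k <;> first | exact absurd rfl hik | skip
    · exact ⟨0, _, rfl, Or.inl rfl⟩
    · exact ⟨2, _, by rw [map_inv, hφ', inv_div]; simp [pow_succ, MulAut.mul_apply, e3], Or.inr rfl⟩
    · exact ⟨0, _, by rw [map_inv, hφ', inv_div]; simp, Or.inr rfl⟩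
    · exact ⟨1, _, by rw [hφ']; simp [pow_succ, MulAut.mul_apply], Or.inl rfl⟩
    · exact ⟨2, _, by rw [hφ']; simp [pow_succ, MulAut.mul_apply, e3], Or.inl rfl⟩
    · exact ⟨1, _, by rw [map_inv, hφ', inv_div]; simp [pow_succ, MulAut.mul_apply], Or.inr rfl⟩
  have hdiv : (σb ^ u.1) g' / (σb ^ v.1) g' = (σb ^ v.2) h' / (σb ^ u.2) h' := by
    rw [div_eq_div_iff_mul_eq_mul, e, mul_comm]
  have h1ne : u.1 ≠ v.1 := by
    intro h1
    rw [h1, div_self'] at hdiv
    exact huv (Prod.ext h1 (horb _ hy _ hu.2 _ hv.2 (div_eq_one.1 hdiv.symm).symm))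
  have h2ne : v.2 ≠ u.2 := by
    intro h2
    rw [h2, div_self', div_eq_one] at hdiv
    exact h1ne (horb _ hx _ hu.1 _ hv.1 hdiv)
  obtain ⟨m, w, hw, hw'⟩ := hdiff g' _ hu.1 _ hv.1 h1ne
  obtain ⟨m', w', hv', hv''⟩ := hdiff h' _ hv.2 _ hu.2 h2ne
  have hww : w = w' := hφ (by rw [← hw, ← hv', hdiv])
  obtain ⟨l, hl⟩ : ∃ l, ∀ z, (σb ^ l) ((σb ^ m') z) = z := ⟨2 * m', fun z => by
    rw [← MulAut.mul_apply, ← pow_add, show 2 * m' + m' = 3 * m' by ring, pow_mul, hσp, one_pow, MulAut.one_apply]⟩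
  refine ⟨l + m, ?_⟩
  rw [pow_add, MulAut.mul_apply]
  rcases hw' with hw' | hw' <;> rcases hv'' with hv'' | hv''
  · exact Or.inl (by rw [← hw', hww, hv'', hl])
  · exact Or.inr (by rw [← hw', hww, hv'', map_inv, hl, inv_inv])
  · exact Or.inr (by rw [← map_inv, ← hw', hww, hv'', hl])
  · exact Or.inl (by rw [← inv_inj, ← map_inv, ← hw', hww, hv'', map_inv, hl])

variable [IsAlgClosed K] [FiniteDimensional K W]

omit [IsAlgClosed K] [FiniteDimensional K W] [Fact p.Prime] in
theorem natCast_card_ne_zero {H : Type*} [Group H] [Finite H] {q : ℕ} [Fact q.Prime] (hH : IsPGroup q H)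
    (hp : p.Prime) (hqp : q ≠ p) : (Nat.card H : K) ≠ 0 := by
  intro e
  obtain ⟨m, hm⟩ := hH.exists_card_eq
  rw [hm, CharP.cast_eq_zero_iff K p] at e
  exact hqp ((Nat.prime_dvd_prime_iff_eq hp Fact.out).1 (hp.dvd_of_dvd_pow e)).symm

omit [CharP K p] in
/-- A quadratic operator commutes with a group of order invertible in `K` acting commutatively. -/
theorem comm_of_quadratic (hp2 : p ≠ 2) {A : Type*} [Group A] [Finite A] (π : A →* Module.End K W)
    (hcomm : ∀ a b, π a * π b = π b * π a) (hAK : ∀ N : Subgroup A, (N.index : K) ≠ 0) (σ : MulAut A) {n : ℕ}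
    (hσ : σ ^ p ^ n = 1) (S : Module.End K W) (hSπ : ∀ a, S * π a = π (σ a) * S)
    (hquad : (S - 1) * (S - 1) = 0) (a : A) : π (σ a) = π a := by
  classical
  by_contra hne
  let _ : CommGroup (A ⧸ π.ker) :=
    { (inferInstance : Group (A ⧸ π.ker)) with
      mul_comm := fun x y => by
        induction x using QuotientGroup.induction_on with | H x => ?_
        induction y using QuotientGroup.induction_on with | H y => ?_
        refine QuotientGroup.eq.2 (MonoidHom.mem_ker.2 ?_)
        rw [map_mul, map_mul π y x, ← hcomm, ← map_mul π x y, ← map_mul, inv_mul_cancel, map_one] }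
  let π' : A ⧸ π.ker →* Module.End K W := QuotientGroup.lift π.ker π le_rfl
  obtain ⟨μ, v, hv, hDv⟩ := exists_character (hAK π.ker) π' (π (σ a) - π a) (sub_ne_zero.2 hne) fun z => by
    induction z using QuotientGroup.induction_on with | H z => ?_
    show (π (σ a) - π a) * π z = π z * (π (σ a) - π a)
    rw [sub_mul, mul_sub, hcomm, hcomm a z]
  have hv' : ∀ b, π b v = μ (b : A ⧸ π.ker) • v := fun b => hv b
  by_cases hμ : ∃ b, μ ((σ b : A) : A ⧸ π.ker) ≠ μ (b : A ⧸ π.ker)
  · have hpow : ∀ (k : ℕ) (b : A), (σ.toEquiv ^ k) b = (σ ^ k) b := fun k => by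
      induction k with
      | zero => intro b; rfl
      | succ k ih => intro b; rw [pow_succ, Equiv.Perm.mul_apply, pow_succ, MulAut.mul_apply, ih]; rfl
    have h0 : (1 : Module.End K W) v = 0 := eq_zero_of_moved hp2 (fun b => π b) σ.toEquiv
      (Equiv.ext fun b => by rw [hpow, hσ]; rfl) S 1 hSπ (fun b => by rw [one_mul, mul_one])
      (by rw [one_mul, hquad]) (fun b => μ (b : A ⧸ π.ker)) hμ hv'
    rw [Module.End.one_apply] at h0
    exact hDv (by rw [h0, map_zero])
  · push Not at hμ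
    exact hDv (by rw [LinearMap.sub_apply, hv', hv', hμ, sub_self])

/-- **The key step.** A quadratic `z ∈ ⁅B, B⁆` centralising the `p`-group `B`, with `(z - 1) (y - 1) ^ 2 = 0` on
`B`, centralises every `B`-invariant `q`-subgroup. -/
theorem mem_centralizer_of_quadratic_derived (hp2 : p ≠ 2) {X : Type*} [Group X] [Finite X]
    (ψ : X →* Module.End K W) (hψ : Function.Injective ψ) {B : Subgroup X} (hB : IsPGroup p B) {z : X}
    (hzB : z ∈ B) (hz : z ∈ ⁅B, B⁆) (hzc : ∀ y ∈ B, y * z = z * y) (hquad : (ψ z - 1) * (ψ z - 1) = 0)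
    (h3 : ∀ y ∈ B, (ψ z - 1) * (ψ y - 1) * (ψ y - 1) = 0) {q : ℕ} [Fact q.Prime] (hqp : q ≠ p) :
    ∀ (N : ℕ) (R : Subgroup X), Nat.card R = N → IsPGroup q R → B ≤ Subgroup.normalizer (R : Set X) →
      ∀ r ∈ R, z * r = r * z := by
  intro N
  induction N using Nat.strong_induction_on with
  | _ N ih =>
  intro R hN hR hBR
  subst hN
  classical
  have hp : p.Prime := Fact.out
  have := hR.isNilpotent
  let c : B →* MulAut R := R.normalizerMonoidHom.comp (Subgroup.inclusion hBR)
  have hcv : ∀ (y : B) (r : R), ((c y r : R) : X) = (y : X) * r * (y : X)⁻¹ := fun y r => rfl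
  set z' : B := ⟨z, hzB⟩ with hz'
  set σ := c z' with hσ
  obtain ⟨n, hn⟩ := hB z'
  have hσn : σ ^ p ^ n = 1 := by rw [hσ, ← map_pow, hn, map_one]
  have hσp : σ ^ p = 1 := by
    have h1 : ψ (z ^ p) = 1 := by
      have hk : ∀ k : ℕ, ψ z ^ k = 1 + (k : Module.End K W) * (ψ z - 1) := by
        intro k
        induction k with
        | zero => simp
        | succ k ih' =>
          rw [pow_succ, ih', show (1 + (k : Module.End K W) * (ψ z - 1)) * ψ z =
            1 + ((k : Module.End K W) + 1) * (ψ z - 1) + (k : Module.End K W) * ((ψ z - 1) * (ψ z - 1)) by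
              noncomm_ring, hquad, mul_zero, add_zero, Nat.cast_succ]
      rw [map_pow, hk, ← map_natCast (algebraMap K (Module.End K W)), CharP.cast_eq_zero K p, map_zero, zero_mul,
        add_zero]
    rw [hσ, ← map_pow, show z' ^ p = 1 from Subtype.ext (hψ (by rw [SubgroupClass.coe_pow, OneMemClass.coe_one, h1, map_one])), map_one]
  suffices h : ∀ r : R, σ r = r by
    intro r hr
    have h1 : z * r * z⁻¹ = r := congrArg Subtype.val (h ⟨r, hr⟩)
    exact mul_inv_eq_iff_eq_mul.1 h1
  have hzpow : ∀ (y : B) (r : R), c y (σ r) = σ (c y r) := fun y r => by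
    rw [hσ, ← MulAut.mul_apply, ← MulAut.mul_apply, ← map_mul, ← map_mul,
      show y * z' = z' * y from Subtype.ext (hzc y y.2)]
  -- proper invariant subgroups are centralised
  have hsub : ∀ C : Subgroup R, (∀ (y : B), ∀ r ∈ C, c y r ∈ C) → C ≠ ⊤ → ∀ r ∈ C, σ r = r := by
    intro C hC hCt r hr
    have hlt : Nat.card (C.map R.subtype) < Nat.card R := by
      rw [Subgroup.card_map_of_injective R.subtype_injective]
      exact lt_of_le_of_ne (Nat.le_of_dvd Nat.card_pos C.card_subgroup_dvd_card)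
        fun e => hCt (Subgroup.eq_top_of_card_eq C e)
    have hCn : B ≤ Subgroup.normalizer ((C.map R.subtype : Subgroup X) : Set X) := by
      intro y hy
      refine Subgroup.mem_normalizer_iff_map_conj_eq.2 (Subgroup.eq_of_le_of_card_ge ?_
        (Subgroup.card_map_of_injective (MulAut.conj y).injective).ge)
      rintro _ ⟨_, ⟨s, hs, rfl⟩, rfl⟩
      exact ⟨c ⟨y, hy⟩ s, hC _ s hs, rfl⟩
    have h := ih _ hlt (C.map R.subtype) rfl ((hR.to_subgroup C).map _) hCn r ⟨r, hr, rfl⟩
    exact Subtype.ext (show z * r * z⁻¹ = (r : X) by rw [h, mul_inv_cancel_right])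
  have hSπ : ∀ (y : B) (r : R), ψ y * ψ (r : X) = ψ ((c y r : R) : X) * ψ y := fun y r => by
    rw [← map_mul, ← map_mul, hcv, inv_mul_cancel_right]
  have hidx : ∀ N : Subgroup R, (N.index : K) ≠ 0 := fun N e => by
    refine natCast_card_ne_zero (K := K) hR hp hqp ?_
    obtain ⟨t, ht⟩ := N.index_dvd_card
    rw [ht, Nat.cast_mul, e, zero_mul]
  by_cases hab : ∀ a b : R, a * b = b * a
  · intro r
    have h := comm_of_quadratic (p := p) hp2 (ψ.comp R.subtype) (fun a b => by rw [← map_mul, hab, map_mul]) hidx σ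
      hσn (ψ z) (hSπ z') hquad r
    exact Subtype.ext (hψ h)
  by_cases hgen : Subgroup.closure (Set.range fun g : R => g⁻¹ * σ g) = ⊤
  swap
  · intro r
    have hd := hsub _ (fun y s hs => by
      refine (Subgroup.closure_le ((Subgroup.closure (Set.range fun g : R => g⁻¹ * σ g)).comap (c y).toMonoidHom)).2 ?_ hs
      rintro _ ⟨g, rfl⟩
      refine Subgroup.subset_closure ⟨c y g, ?_⟩
      show (c y g)⁻¹ * σ (c y g) = c y (g⁻¹ * σ g)
      rw [map_mul, map_inv, hzpow]) hgen (r⁻¹ * σ r) (Subgroup.subset_closure ⟨r, rfl⟩)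
    have hk : ∀ k : ℕ, (σ ^ k) r = r * (r⁻¹ * σ r) ^ k := by
      intro k
      induction k with
      | zero => simp
      | succ k ihk =>
        rw [pow_succ', MulAut.mul_apply, ihk, map_mul, map_pow, hd, pow_succ', ← mul_assoc r, mul_inv_cancel_left]
    have h1 := hk p
    rw [hσp, MulAut.one_apply, left_eq_mul] at h1
    exact (inv_mul_eq_one.1 (pow_natCast_eq_one_coprime hR hp hqp.symm h1)).symm
  exfalso
  push Not at hab
  obtain ⟨a₀, b₀, hab₀⟩ := hab
  have hZt : Subgroup.center R ≠ ⊤ := fun e =>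
    hab₀ (Subgroup.mem_center_iff.1 (e.ge (Subgroup.mem_top b₀)) a₀)
  have hZfix : ∀ r ∈ Subgroup.center R, σ r = r := hsub _ (fun y r hr =>
    Subgroup.characteristic_iff_map_le.1 inferInstance (c y) ⟨r, hr, rfl⟩) hZt
  haveI : (frattini R).Characteristic := frattini_characteristic
  have hΦfix : ∀ r ∈ frattini R, σ r = r := hsub _ (fun y r hr =>
    Subgroup.characteristic_iff_map_le.1 inferInstance (c y) ⟨r, hr, rfl⟩) fun e => by
      have := frattini_nongenerating (K := (⊥ : Subgroup R)) (by rw [e]; exact sup_top_eq _)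
      exact hab₀ (by rw [Subgroup.mem_bot.1 (this.ge (Subgroup.mem_top a₀)), one_mul, mul_one])
  obtain ⟨hCfix, hspec⟩ := center_eq_of_minimal hR hp hqp.symm σ hσp hgen hZfix hΦfix
  have hcl : ∀ a b : R, ⁅a, b⁆ ∈ Subgroup.center R := fun a b => by
    have h : commutator R ≤ Subgroup.center R := by
      intro x hx
      exact hCfix x (hΦfix x (Cfsg.Agent.PGroup.commutator_le_frattini hR hx))
    exact h (Subgroup.commutator_mem_commutator (Subgroup.mem_top a) (Subgroup.mem_top b))
  obtain ⟨r₀, hr₀⟩ : ∃ r, σ r ≠ r := by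
    by_contra h
    push Not at h
    exact hZt ((Subgroup.eq_top_iff' _).2 fun r => hCfix r (h r))
  let π : R →* Module.End K W := ψ.comp R.subtype
  letI : CommGroup (Subgroup.center R) :=
    { (inferInstance : Group (Subgroup.center R)) with
      mul_comm := fun a b => Subtype.ext (Subgroup.mem_center_iff.1 b.2 a) }
  obtain ⟨μ, v₀, hv₀, hDv₀⟩ := exists_character (natCast_card_ne_zero (K := K) (hR.to_subgroup (Subgroup.center R)) hp hqp)
    (π.comp (Subgroup.center R).subtype) (π (σ r₀) - π r₀)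
    (sub_ne_zero.2 fun e => hr₀ (Subtype.ext (hψ e))) (fun w => by
      rw [sub_mul, mul_sub]
      show π _ * π (w : R) - π _ * π (w : R) = π (w : R) * π _ - π (w : R) * π _
      rw [← map_mul, ← map_mul, ← map_mul, ← map_mul, Subgroup.mem_center_iff.1 w.2,
        Subgroup.mem_center_iff.1 w.2])
  let Wμ : Submodule K W := ⨅ w : Subgroup.center R, Module.End.eigenspace (π (w : R)) (μ w)
  have hWμ : ∀ v, v ∈ Wμ ↔ ∀ w : Subgroup.center R, π (w : R) v = μ w • v := fun v => by
    simp only [Wμ, Submodule.mem_iInf, Module.End.mem_eigenspace_iff]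
  have hπW : ∀ g, ∀ v ∈ Wμ, π g v ∈ Wμ := fun g v hv => (hWμ _).2 fun w => by
    rw [← Module.End.mul_apply, ← map_mul, ← Subgroup.mem_center_iff.1 w.2 g, map_mul, Module.End.mul_apply,
      (hWμ v).1 hv w, map_smul]
  have hv₀W : v₀ ∈ Wμ := (hWμ _).2 hv₀
  -- `B` fixes the character
  have hcZ : ∀ (y : B) (w : Subgroup.center R), c y (w : R) ∈ Subgroup.center R := fun y w =>
    Subgroup.characteristic_iff_map_le.1 inferInstance (c y) ⟨_, w.2, rfl⟩
  have hfixμ : ∀ (y : B) (w : Subgroup.center R), μ ⟨c y w, hcZ y w⟩ = μ w := by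
    intro y
    by_contra hne
    push Not at hne
    obtain ⟨m, hm⟩ := hB y
    let τ : Equiv.Perm (Subgroup.center R) := Equiv.ofBijective (fun w => ⟨c y w, hcZ y w⟩)
      (Finite.injective_iff_bijective.1 fun a b e => Subtype.ext ((c y).injective (congrArg Subtype.val e)))
    have hτk : ∀ (k : ℕ) (w : Subgroup.center R), (((τ ^ k) w : Subgroup.center R) : R) = ((c y) ^ k) w := by
      intro k
      induction k with
      | zero => intro w; rfl
      | succ k ihk => intro w; rw [pow_succ, Equiv.Perm.mul_apply, ihk, pow_succ, MulAut.mul_apply]; rfl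
    have hT : ∀ w : Subgroup.center R, (ψ z - 1) * π (w : R) = π (w : R) * (ψ z - 1) := fun w => by
      rw [sub_mul, mul_sub, one_mul, mul_one]
      show ψ (z' : X) * ψ ((w : R) : X) - π (w : R) = π (w : R) * ψ z - π (w : R)
      rw [hSπ z' (w : R), hZfix _ w.2]
      rfl
    have hfixW : ∀ v ∈ Wμ, ψ z v = v := fun v hv => sub_eq_zero.1 <|
      eq_zero_of_moved hp2 (fun w : Subgroup.center R => π (w : R)) τ
        (Equiv.ext fun w => Subtype.ext (by rw [hτk, ← map_pow, hm, map_one]; rfl)) (ψ y) (ψ z - 1)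
        (fun w => hSπ y (w : R)) hT (h3 y y.2) (fun w => μ w) hne ((hWμ v).1 hv)
    refine hDv₀ ?_
    have h1 : ψ z (π r₀ v₀) = π (σ r₀) (ψ z v₀) := LinearMap.congr_fun (hSπ z' r₀) v₀
    rw [hfixW _ hv₀W, hfixW _ (hπW r₀ _ hv₀W)] at h1
    rw [LinearMap.sub_apply, ← h1, sub_self]
  have hyW : ∀ (y : B), ∀ v ∈ Wμ, ψ y v ∈ Wμ := fun y v hv => (hWμ _).2 fun w => by
    obtain ⟨u, hu⟩ : ∃ u : Subgroup.center R, (⟨c y u, hcZ y u⟩ : Subgroup.center R) = w :=
      (Finite.injective_iff_surjective.1 fun a b e => Subtype.ext ((c y).injective (congrArg Subtype.val e))) w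
    rw [← hu]
    have h1 : π (c y u) (ψ y v) = ψ y (π (u : R) v) := (LinearMap.congr_fun (hSπ y (u : R)) v).symm
    show π (c y u) (ψ y v) = _
    rw [h1, (hWμ v).1 hv u, map_smul, hfixμ y u]
  let π' : R →* Module.End K Wμ :=
    { toFun := fun g => (π g).restrict (hπW g)
      map_one' := LinearMap.ext fun v => Subtype.ext (by simp)
      map_mul' := fun a b => LinearMap.ext fun v => Subtype.ext (by simp) }
  let S : Module.End K Wμ := (ψ z).restrict (hyW z')
  have hSπ' : ∀ r, S * π' r = π' (σ r) * S := fun r => LinearMap.ext fun v =>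
    Subtype.ext (LinearMap.congr_fun (hSπ z' r) (v : W))
  have hquad' : (S - 1) * (S - 1) = 0 := LinearMap.ext fun v =>
    Subtype.ext (LinearMap.congr_fun hquad (v : W))
  have hne' : π' (σ r₀) ≠ π' r₀ := fun e => hDv₀ (by
    have h1 : π (σ r₀) v₀ = π r₀ v₀ := congrArg Subtype.val (LinearMap.congr_fun e ⟨v₀, hv₀W⟩)
    rw [LinearMap.sub_apply, h1, sub_self])
  haveI : Nontrivial Wμ := ⟨⟨⟨v₀, hv₀W⟩, 0, fun e => hDv₀ (by
    rw [show v₀ = 0 from congrArg Subtype.val e, map_zero])⟩⟩
  let Zt : Subgroup R :=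
    { carrier := {r | ∀ s, π' r * π' s = π' s * π' r}
      one_mem' := fun s => by rw [map_one, one_mul, mul_one]
      mul_mem' := fun {a b} ha hb s => by rw [map_mul, mul_assoc, hb, ← mul_assoc, ha, mul_assoc]
      inv_mem' := fun {a} ha s => by
        have h1 : π' a⁻¹ * π' a = 1 := by rw [← map_mul, inv_mul_cancel, map_one]
        have h2 : π' a * π' a⁻¹ = 1 := by rw [← map_mul, mul_inv_cancel, map_one]
        calc π' a⁻¹ * π' s = π' a⁻¹ * π' s * (π' a * π' a⁻¹) := by rw [h2, mul_one]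
          _ = π' a⁻¹ * (π' s * π' a) * π' a⁻¹ := by noncomm_ring
          _ = π' a⁻¹ * π' a * π' s * π' a⁻¹ := by rw [← ha s]; noncomm_ring
          _ = π' s * π' a⁻¹ := by rw [h1, one_mul] }
  have hsep : ∀ r, r ∉ Subgroup.center R → ∃ h, π' (h * r) ≠ π' (r * h) := by
    intro r hr
    by_contra hno
    push Not at hno
    have hrZt : r ∈ Zt := fun s => by rw [← map_mul, ← map_mul, hno]
    refine hr (hCfix r (hsub Zt (fun y a ha s => ?_) (fun e => hne' ?_) r hrZt))
    · obtain ⟨t, rfl⟩ := (c y).surjective s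
      refine LinearMap.ext fun v => Subtype.ext ?_
      show π (c y a) (π (c y t) (v : W)) = π (c y t) (π (c y a) (v : W))
      obtain ⟨u, hu⟩ : ∃ u : Wμ, ψ y (u : W) = v := by
        refine ⟨⟨ψ (y⁻¹ : B) v, hyW y⁻¹ v v.2⟩, ?_⟩
        show ψ y (ψ (y⁻¹ : B) (v : W)) = v
        rw [← Module.End.mul_apply, ← map_mul, show (y : X) * (y⁻¹ : B) = 1 by simp, map_one, Module.End.one_apply]
      have hcomm : ∀ (r : R) (w : W), π (c y r) (ψ y w) = ψ y (π r w) := fun r w =>
        (LinearMap.congr_fun (hSπ y r) w).symm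
      rw [← hu, hcomm, hcomm, hcomm, hcomm]
      exact congrArg (ψ y) (congrArg Subtype.val (LinearMap.congr_fun (ha t) u))
    · exact comm_of_quadratic (p := p) hp2 π' (fun a b => (e.ge (Subgroup.mem_top a)) b) hidx σ hσn S hSπ' hquad' r₀
  -- the action on `R / Z(R)`
  let cb : B →* MulAut (R ⧸ Subgroup.center R) :=
    { toFun := fun y => QuotientGroup.congr (Subgroup.center R) (Subgroup.center R) (c y)
        (Subgroup.characteristic_iff_map_eq.1 inferInstance (c y))
      map_one' := MulEquiv.ext fun x => by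
        induction x using QuotientGroup.induction_on with | H r => ?_
        show ((c 1 r : R) : R ⧸ Subgroup.center R) = _
        rw [map_one]; rfl
      map_mul' := fun a b => MulEquiv.ext fun x => by
        induction x using QuotientGroup.induction_on with | H r => ?_
        show ((c (a * b) r : R) : R ⧸ Subgroup.center R) = ((c a (c b r) : R) : R ⧸ Subgroup.center R)
        rw [map_mul]; rfl }
  set σb := cb z' with hσb
  have hσbv : ∀ r : R, σb (r : R ⧸ Subgroup.center R) = ((σ r : R) : R ⧸ Subgroup.center R) := fun r => rfl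
  have hσbp : σb ^ p = 1 := MulEquiv.ext fun x => by
    have hk : ∀ (k : ℕ) (r : R), (σb ^ k) (r : R ⧸ Subgroup.center R) = (((σ ^ k) r : R) : R ⧸ Subgroup.center R) := by
      intro k
      induction k with
      | zero => intro r; rfl
      | succ k ihk => intro r; rw [pow_succ, MulAut.mul_apply, hσbv, ihk, pow_succ σ, MulAut.mul_apply]
    induction x using QuotientGroup.induction_on with | H r => ?_
    rw [hk, hσp]; rfl
  have hfix : ∀ x, σb x = x → x = 1 := fun x => by
    induction x using QuotientGroup.induction_on with | H r => ?_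
    intro hx
    rw [hσbv, QuotientGroup.eq] at hx
    have hd := hZfix _ (inv_mem hx)
    rw [mul_inv_rev, inv_inv] at hd
    have hk : ∀ k : ℕ, (σ ^ k) r = r * (r⁻¹ * σ r) ^ k := by
      intro k
      induction k with
      | zero => simp
      | succ k ihk =>
        rw [pow_succ', MulAut.mul_apply, ihk, map_mul, map_pow, hd, pow_succ', ← mul_assoc r, mul_inv_cancel_left]
    have h1 := hk p
    rw [hσp, MulAut.one_apply, left_eq_mul] at h1
    exact (QuotientGroup.eq_one_iff r).2
      (hCfix r (inv_mul_eq_one.1 (pow_natCast_eq_one_coprime hR hp hqp.symm h1)).symm)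
  have horbit := orbit_of_quadratic hp2 π' μ (fun w => LinearMap.ext fun v => Subtype.ext ((hWμ _).1 v.2 w)) hsep hcl
    σ σb hσbv hσbp hfix S hSπ' hquad'
  have hform : ∀ y : B, ∃ (m : ℕ) (e : ℤ), ∀ x, cb y x = ((σb ^ m) x) ^ e := by
    intro y
    have hne0 : (r₀ : R ⧸ Subgroup.center R) ≠ 1 := fun e => hr₀ (hZfix _ ((QuotientGroup.eq_one_iff _).1 e))
    have hcy : ∀ (m : ℕ) x, cb y ((σb ^ m) x) = (σb ^ m) (cb y x) := fun m x => by
      rw [hσb, ← map_pow, ← MulAut.mul_apply, ← MulAut.mul_apply, ← map_mul, ← map_mul,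
        ((show Commute y z' from Subtype.ext (hzc y y.2)).pow_right m).eq]
    have hne1 : cb y r₀ ≠ 1 := (map_ne_one_iff (cb y) (cb y).injective).2 hne0
    obtain ⟨m, e, hme⟩ : ∃ (m : ℕ) (e : ℤ), cb y r₀ = ((σb ^ m) (r₀ : R ⧸ Subgroup.center R)) ^ e := by
      obtain ⟨m, hm | hm⟩ := horbit _ _ hne0 hne1
      · exact ⟨m, 1, by rw [hm, zpow_one]⟩
      · exact ⟨m, -1, by rw [hm, zpow_neg, zpow_one]⟩
    refine ⟨m, e, fun x => ?_⟩
    by_cases hx : x = 1
    · subst hx; simp
    obtain ⟨l, hl⟩ := horbit _ x hne0 hx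
    rcases hl with rfl | rfl
    · rw [hcy, hme, map_zpow, ← MulAut.mul_apply, ← MulAut.mul_apply, ← pow_add, ← pow_add, add_comm]
    · rw [map_inv, hcy, hme, map_zpow, map_inv, inv_zpow, ← MulAut.mul_apply, ← MulAut.mul_apply, ← pow_add,
        ← pow_add, add_comm]
  have hker : commutator B ≤ cb.ker := by
    rw [commutator_def, Subgroup.commutator_le]
    intro a _ b _
    rw [MonoidHom.mem_ker, map_commutatorElement, commutatorElement_eq_one_iff_mul_comm]
    obtain ⟨m, e, he⟩ := hform a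
    obtain ⟨m', e', he'⟩ := hform b
    refine MulEquiv.ext fun x => ?_
    rw [MulAut.mul_apply, MulAut.mul_apply, he, he', he, he', map_zpow, map_zpow, ← zpow_mul, ← zpow_mul,
      ← MulAut.mul_apply, ← MulAut.mul_apply, ← pow_add, ← pow_add, add_comm m, mul_comm e]
  have hz1 : z' ∈ commutator B := by
    obtain ⟨w, hw, hwz⟩ := (Subgroup.map_subtype_commutator B).ge hz
    rwa [show z' = w from Subtype.ext hwz.symm]
  have h := DFunLike.congr_fun (show σb = 1 from hker hz1) (r₀ : R ⧸ Subgroup.center R)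
  exact hr₀ (hZfix _ ((QuotientGroup.eq_one_iff _).1 (hfix _ h)))

/-- In a `p`-soluble linear group with trivial `p`-core such a `z` is trivial. -/
theorem eq_one_of_quadratic_derived (hp2 : p ≠ 2) {X : Type*} [Group X] [Finite X]
    (hs : Cfsg.IsPSolvable p X) (hcore : Cfsg.pCore p X = ⊥) (ψ : X →* Module.End K W)
    (hψ : Function.Injective ψ) {B : Subgroup X} (hB : IsPGroup p B) {z : X} (hzB : z ∈ B) (hz : z ∈ ⁅B, B⁆)
    (hzc : ∀ y ∈ B, y * z = z * y) (hquad : (ψ z - 1) * (ψ z - 1) = 0)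
    (h3 : ∀ y ∈ B, (ψ z - 1) * (ψ y - 1) * (ψ y - 1) = 0) : z = 1 := by
  set M := Cfsg.pPrimeCore p X with hM
  have hMc : (Nat.card M).Coprime p := PCore.coprime_card_pPrimeCore
  have hBM : B ≤ Subgroup.normalizer (M : Set X) := by rw [Subgroup.normalizer_eq_top]; exact le_top
  obtain ⟨k, hk⟩ := hB.exists_card_eq
  have hcop : (Nat.card B).Coprime (Nat.card M) := hk ▸ hMc.symm.pow_left k
  have := hB.isNilpotent
  have hD := Coprime.eq_of_forall_invariant_pgroup_le hBM hcop (Or.inl inferInstance)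
    (S := M ⊓ Subgroup.centralizer ({z} : Set X)) inf_le_left
    (fun q Q hq hQ hQM hQn => le_inf hQM fun r hr => by
      haveI := Fact.mk hq
      rw [Subgroup.mem_centralizer_singleton_iff]
      rcases eq_or_ne q p with rfl | hqp
      · obtain ⟨j, hj⟩ := hQ.exists_card_eq
        have h1 := hj ▸ Subgroup.card_dvd_of_le hQM
        have : Q = ⊥ := Subgroup.eq_bot_of_card_eq Q (by
          rw [hj]; exact Nat.eq_one_of_dvd_coprimes (hMc.symm.pow_left j) dvd_rfl h1)
        rw [this, Subgroup.mem_bot] at hr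
        rw [hr, one_mul, mul_one]
      · exact (mem_centralizer_of_quadratic_derived hp2 ψ hψ hB hzB hz hzc hquad h3 hqp _ Q rfl hQ hQn r hr).symm)
  have hzM : z ∈ M := PCore.centralizer_pPrimeCore_le hs hcore (Subgroup.mem_centralizer_iff.2 fun r hr =>
    Subgroup.mem_centralizer_singleton_iff.1 ((hD.symm.le.trans inf_le_right) hr))
  obtain ⟨j, hj⟩ := IsPGroup.iff_orderOf.1 hB ⟨z, hzB⟩
  rw [Subgroup.orderOf_mk] at hj
  exact orderOf_eq_one_iff.1 (Nat.eq_one_of_dvd_coprimes (hMc.symm.pow_left j) hj.dvd (M.orderOf_dvd_natCard hzM))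

omit [Fact p.Prime] in
/-- What normalises a subgroup normalises its commutator. -/
theorem le_normalizer_commutator {G : Type*} [Group G] {P B : Subgroup G}
    (h : P ≤ Subgroup.normalizer (B : Set G)) : P ≤ Subgroup.normalizer ((⁅B, B⁆ : Subgroup G) : Set G) := by
  intro x hx
  refine Subgroup.mem_normalizer_iff_map_conj_eq.2 ?_
  rw [Subgroup.map_commutator, Subgroup.mem_normalizer_iff_map_conj_eq.1 (h hx)]

/-- On a self-centralising elementary abelian `V = O_p(G)`: an abelian `⁅B, B⁆` lies in `V`, `B` a normal subgroup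
of a `p`-group containing `V`. -/
theorem commutator_le_of_quadratic (hp2 : p ≠ 2) {G : Type*} [Group G] [Finite G] (hs : Cfsg.IsPSolvable p G)
    {V : Subgroup G} [V.Normal] (hV : Cfsg.IsElementaryAbelian p V) (hcore : Cfsg.pCore p G = V)
    (hC : Subgroup.centralizer (V : Set G) ≤ V) {P B : Subgroup G} (hP : IsPGroup p P) (hVP : V ≤ P)
    (hBP : B ≤ P) (hPB : P ≤ Subgroup.normalizer (B : Set G))
    (hA : ∀ a ∈ ⁅B, B⁆, ∀ b ∈ ⁅B, B⁆, a * b = b * a) : ⁅B, B⁆ ≤ V := by
  classical
  let _ : CommGroup V := { (inferInstance : Group V) with mul_comm := fun a b => hV.1.is_comm.comm a b }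
  have : Module (ZMod p) (Additive V) := AddCommGroup.zmodModule fun v => by
    apply Additive.toMul.injective
    rw [toMul_nsmul, toMul_zero]
    exact Subtype.ext (by rw [SubgroupClass.coe_pow]; exact hV.2 _ (Additive.toMul v).2)
  let act : G →* Module.End (ZMod p) (Additive V) :=
    { toFun := fun g => (MonoidHom.toAdditive (MulAut.conjNormal g : MulAut V).toMonoidHom).toZModLinearMap p
      map_one' := LinearMap.ext fun v => Additive.toMul.injective (Subtype.ext
        (show (1 : G) * ((Additive.toMul v : V) : G) * (1 : G)⁻¹ = ((Additive.toMul v : V) : G) by simp))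
      map_mul' := fun g h => LinearMap.ext fun v => Additive.toMul.injective (Subtype.ext
        (show (g * h) * ((Additive.toMul v : V) : G) * (g * h)⁻¹ =
          g * (h * ((Additive.toMul v : V) : G) * h⁻¹) * g⁻¹ by group)) }
  have hVk : V ≤ act.ker := fun g hg => LinearMap.ext fun v => Additive.toMul.injective (Subtype.ext (by
    show g * ((Additive.toMul v : V) : G) * g⁻¹ = Additive.toMul v
    rw [show g * ((Additive.toMul v : V) : G) = (Additive.toMul v : V) * g from
      congrArg Subtype.val (hV.1.is_comm.comm ⟨g, hg⟩ (Additive.toMul v)), mul_inv_cancel_right]))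
  let f : G ⧸ V →* Module.End (ZMod p) (Additive V) := QuotientGroup.lift V act hVk
  have hf : Function.Injective f := by
    refine (injective_iff_map_eq_one f).2 fun g hg => ?_
    induction g using QuotientGroup.induction_on with | H g => ?_
    refine (QuotientGroup.eq_one_iff g).2 (hC (Subgroup.mem_centralizer_iff.2 fun v hv => ?_))
    exact (mul_inv_eq_iff_eq_mul.1 (congrArg (fun w : Additive V => ((Additive.toMul w : V) : G))
      (LinearMap.congr_fun (show act g = 1 from hg) (Additive.ofMul ⟨v, hv⟩)) : g * v * g⁻¹ = v)).symm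
  have hd : ∀ (g : G) (w : Additive V), ((Additive.toMul ((act g - 1) w) : V) : G) =
      g * (Additive.toMul w : V) * g⁻¹ * ((Additive.toMul w : V) : G)⁻¹ := fun g w => by
    rw [LinearMap.sub_apply, toMul_sub, Subgroup.coe_div, div_eq_mul_inv]
    rfl
  obtain ⟨m, ψ, hψ⟩ := exists_extend (ZMod p) (Additive V)
  by_contra hnot
  set π := QuotientGroup.mk' V with hπ
  set Bb := B.map π with hBb
  have hBbp : IsPGroup p Bb := (hP.to_le hBP).map π
  have hne : commutator Bb ≠ ⊥ := by
    intro e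
    apply hnot
    have h1 : (⁅B, B⁆).map π = ⊥ := by
      rw [Subgroup.map_commutator, ← hBb, ← Subgroup.map_subtype_commutator, e, Subgroup.map_bot]
    rwa [Subgroup.map_eq_bot_iff, hπ, QuotientGroup.ker_mk'] at h1
  obtain ⟨zb, hzA, hzc, hzo⟩ := PGroup.exists_orderOf_eq_mem_center hBbp (commutator Bb) hne
  obtain ⟨a, ha, haz⟩ : ∃ a ∈ ⁅B, B⁆, π a = zb := by
    have h1 : (zb : G ⧸ V) ∈ (⁅B, B⁆).map π := by
      rw [Subgroup.map_commutator, ← hBb, ← Subgroup.map_subtype_commutator]
      exact ⟨zb, hzA, rfl⟩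
    exact h1
  have hAB : ⁅B, B⁆ ≤ B := by
    rw [Subgroup.commutator_le]
    intro x hx y hy
    rw [commutatorElement_def]
    exact mul_mem (mul_mem (mul_mem hx hy) (inv_mem hx)) (inv_mem hy)
  have hPA := le_normalizer_commutator hPB
  let χ : G ⧸ V →* Module.End (AlgebraicClosure (ZMod p)) (Fin m → AlgebraicClosure (ZMod p)) :=
    ψ.toMonoidHom.comp f
  have hχ : ∀ g, χ (π g) = ψ (act g) := fun g => rfl
  have hwP : ∀ w : Additive V, ((Additive.toMul w : V) : G) ∈ P := fun w => hVP (Additive.toMul w).2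
  have hquad : (χ zb - 1) * (χ zb - 1) = 0 := by
    rw [← haz, hχ, ← map_one ψ, ← map_sub, ← map_mul, ← map_zero ψ]
    refine congrArg ψ (LinearMap.ext fun w => Additive.toMul.injective (Subtype.ext ?_))
    rw [Module.End.mul_apply, hd, hd, LinearMap.zero_apply, toMul_zero, OneMemClass.coe_one]
    set w₀ := ((Additive.toMul w : V) : G) with hw₀
    have hu : a * w₀ * a⁻¹ * w₀⁻¹ ∈ ⁅B, B⁆ := by
      rw [show a * w₀ * a⁻¹ * w₀⁻¹ = a * (w₀ * a⁻¹ * w₀⁻¹) by group]
      exact mul_mem ha ((Subgroup.mem_normalizer_iff.1 (hPA (hwP w)) _).1 (inv_mem ha))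
    rw [hA a ha _ hu, mul_inv_cancel_right, mul_inv_cancel]
  have h3 : ∀ y ∈ Bb, (χ zb - 1) * (χ y - 1) * (χ y - 1) = 0 := by
    rintro _ ⟨y, hy, rfl⟩
    rw [← haz, hχ, hχ, ← map_one ψ, ← map_sub, ← map_sub, ← map_mul, ← map_mul, ← map_zero ψ]
    refine congrArg ψ (LinearMap.ext fun w => Additive.toMul.injective (Subtype.ext ?_))
    rw [Module.End.mul_apply, Module.End.mul_apply, hd, hd, hd, LinearMap.zero_apply, toMul_zero,
      OneMemClass.coe_one]
    set w₀ := ((Additive.toMul w : V) : G) with hw₀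
    have hu1 : y * w₀ * y⁻¹ * w₀⁻¹ ∈ B := by
      rw [show y * w₀ * y⁻¹ * w₀⁻¹ = y * (w₀ * y⁻¹ * w₀⁻¹) by group]
      exact mul_mem hy ((Subgroup.mem_normalizer_iff.1 (hPB (hwP w)) _).1 (inv_mem hy))
    set u₁ := y * w₀ * y⁻¹ * w₀⁻¹ with hu₁
    have hu2 : y * u₁ * y⁻¹ * u₁⁻¹ ∈ ⁅B, B⁆ := Subgroup.commutator_mem_commutator hy hu1
    rw [hA a ha _ hu2, mul_inv_cancel_right, mul_inv_cancel]
  have h := eq_one_of_quadratic_derived hp2 (PCore.isPSolvable_quotient hs V)
    (by subst hcore; exact PCore.pCore_quotient_self_eq_bot) χ (hψ.comp hf) hBbp zb.2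
    ((Subgroup.map_subtype_commutator Bb).le ⟨zb, hzA, rfl⟩)
    (fun y hy => congrArg Subtype.val (Subgroup.mem_center_iff.1 hzc ⟨y, hy⟩)) hquad h3
  have : zb = 1 := Subtype.ext h
  rw [this, orderOf_one] at hzo
  exact (Fact.out : p.Prime).ne_one hzo.symm

end Cfsg.Agent.HallHigman
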